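import Groth.Agent.Chevalley.Val.Bridge

/-!
A commutative group variety without small subgroups which is not proper has a non-constant function.
-/

universe u

set_option backward.isDefEq.respectTransparency false

noncomputable section

open CategoryTheory CategoryTheory.Limits AlgebraicGeometry MonoidalCategory CartesianMonoidalCategory MonObj IsLocalRing

namespace Groth.Agent.Chevalley.Val

variable {k : Type u} [Field k] {C : Over (Spec (CommRingCat.of k))} [GrpObj C] [IsCommMonObj C] [IsIntegral C.left]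

theorem constants_mem {R : ValuationSubring C.left.functionField} {y : Spec (CommRingCat.of k)}
    (hy : C.hom (genericPoint C.left) ⤳ y) (hdom : Proj16.Dominates C.hom R hy) (c : k) :
    algebraMap k C.left.functionField c ∈ R := by
  obtain ⟨ψ, hψ⟩ := Spec.map_surjective ((Spec (CommRingCat.of k)).fromSpecStalk y)
  have h : ψ ≫ Proj16.toFunctionField C.hom hy = CommRingCat.ofHom (algebraMap k C.left.functionField) :=
    Spec.map_injective (by rw [Spec.map_comp, hψ, Proj16.specMap_toFunctionField, specMap_algebraMap])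
  rw [show algebraMap k C.left.functionField c = (Proj16.toFunctionField C.hom hy).hom (ψ.hom c) from
    (congrArg (fun r => r.hom c) h).symm]
  exact hdom.1 _

theorem germ_mem_of_no_centre [IsSeparated C.hom] {R : ValuationSubring C.left.functionField} (hR : ∀ c, algebraMap k _ c ∈ R)
    (hno : ∀ x, ¬ Proj16.IsCentre R x) {U : C.left.Opens} [Nonempty U] (hU : IsAffineOpen U) :
    letI := secAlg U
    ∀ s : Finset Γ(C.left, U), Algebra.adjoin k (s : Set Γ(C.left, U)) = ⊤ →
      ∃ b ∈ s, C.left.germToFunctionField U b ∉ R := by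
  letI := secAlg U
  intro s hs
  by_contra! h
  obtain ⟨hst, -⟩ := affMap_germ (C := C) hU
  haveI := hst
  let RA : Subalgebra k C.left.functionField := { R.toSubring with algebraMap_mem' := hR }
  have hle : (IsScalarTower.toAlgHom k Γ(C.left, U) C.left.functionField).range ≤ RA := by
    rw [← Algebra.map_top, ← hs, AlgHom.map_adjoin]
    refine Algebra.adjoin_le ?_
    rintro _ ⟨b, hb, rfl⟩
    exact h b hb
  have hmem : ∀ b, C.left.germToFunctionField U b ∈ R := fun b => hle ⟨b, rfl⟩
  have hgp : genericPoint C.left ∈ U :=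
    ((genericPoint_spec C.left).mem_open_set_iff U.2).mpr (by simpa using (Set.nonempty_coe_sort.mp ‹Nonempty U›))
  refine hno _ (Proj16.isCentre_of_lift R
    (Spec.map (CommRingCat.ofHom ((C.left.germToFunctionField U).hom.codRestrict R.toSubring hmem)) ≫ hU.fromSpec) ?_)
  rw [← Spec.map_comp_assoc]
  exact hU.fromSpecStalk_eq_fromSpecStalk hgp

theorem germ_mem_of_lift [IsSeparated C.hom] {O : Subalgebra k C.left.functionField} [IsLocalRing O] (l : aff (k := k) O ⟶ C)
    (hl : affMap O.val ≫ l = genO) {U : C.left.Opens} [Nonempty U] (hU : IsAffineOpen U)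
    (hz : l.left (closedPoint O) ∈ U) (c : Γ(C.left, U)) : C.left.germToFunctionField U c ∈ O := by
  letI := secAlg U
  obtain ⟨hst, hgerm⟩ := affMap_germ (C := C) hU
  haveI := hst
  have hr : Set.range l.left ⊆ Set.range hU.fromSpec := by
    rw [hU.range_fromSpec]
    rintro _ ⟨w, rfl⟩
    exact ((specializes_closedPoint (R := O) w).map l.left.continuous).mem_open U.2 hz
  obtain ⟨f, hf⟩ := exists_affMap_eq (Over.homMk (IsOpenImmersion.lift hU.fromSpec l.left hr) (by
    show _ ≫ Spec.map (CommRingCat.ofHom (algebraMap k Γ(C.left, U))) = _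
    rw [show Spec.map (CommRingCat.ofHom (algebraMap k Γ(C.left, U))) = hU.fromSpec ≫ C.hom from
      (Over.w (chartPt hU)).symm, ← Category.assoc, IsOpenImmersion.lift_fac]
    exact Over.w l) : aff (k := k) O ⟶ aff Γ(C.left, U))
  have hfl : affMap f ≫ chartPt hU = l := by
    rw [hf]; exact Over.OverMorphism.ext (IsOpenImmersion.lift_fac _ _ _)
  haveI : Mono (chartPt hU) := by
    haveI : Mono (chartPt hU).left := inferInstanceAs (Mono hU.fromSpec)
    exact Over.mono_of_mono_left _
  have he : O.val.comp f = IsScalarTower.toAlgHom k Γ(C.left, U) C.left.functionField := by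
    refine affMap_inj ((cancel_mono (chartPt hU)).mp ?_)
    rw [← affMap_comp, Category.assoc, hfl, hl, hgerm]
  rw [show C.left.germToFunctionField U c = O.val (f c) from (AlgHom.congr_fun he c).symm]
  exact (f c).2

variable [IsAlgClosed k]
  [LocallyOfFiniteType C.hom] [QuasiCompact C.hom] [IsSeparated C.hom]

theorem act_notMem {O : Subalgebra k C.left.functionField} [IsLocalRing O] {U : C.left.Opens} [Nonempty U]
    (hU : IsAffineOpen U)
    (hbad : ∀ z : C.left, ∃ (V : C.left.Opens) (_ : Nonempty V) (_ : IsAffineOpen V), z ∈ V ∧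
      ∃ c, C.left.germToFunctionField V c ∉ O)
    (gp : 𝟙_ (Over (Spec (CommRingCat.of k))) ⟶ C) :
    letI := secAlg U
    ∀ s : Finset Γ(C.left, U), Algebra.adjoin k (s : Set Γ(C.left, U)) = ⊤ →
      ∃ c ∈ s, actHom gp (C.left.germToFunctionField U c) ∉ O := by
  letI := secAlg U
  intro s hs
  by_contra! h
  obtain ⟨hst, hgerm⟩ := affMap_germ (C := C) hU
  haveI := hst
  let g := (actHom gp).comp (IsScalarTower.toAlgHom k Γ(C.left, U) C.left.functionField)
  have hle : g.range ≤ O := by
    rw [← Algebra.map_top, ← hs, AlgHom.map_adjoin]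
    refine Algebra.adjoin_le ?_
    rintro _ ⟨b, hb, rfl⟩
    exact h b hb
  let ψ := g.codRestrict O fun b => hle ⟨b, rfl⟩
  let l : aff (k := k) O ⟶ C := affMap ψ ≫ chartPt hU ≫ tr gp⁻¹
  have hl : affMap O.val ≫ l = genO := by
    show affMap O.val ≫ affMap ψ ≫ chartPt hU ≫ tr gp⁻¹ = genO
    rw [← Category.assoc, affMap_comp, AlgHom.val_comp_codRestrict, ← affMap_comp, Category.assoc,
      ← Category.assoc (affMap (IsScalarTower.toAlgHom k _ _)), hgerm, ← Category.assoc, actHom_spec,
      Category.assoc, tr_tr, mul_inv_cancel]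
    rw [comp_tr, MonObj.comp_one, _root_.one_mul]
  obtain ⟨V, hne, hV, hzV, c, hc⟩ := hbad (l.left (closedPoint O))
  exact hc (germ_mem_of_lift l hl hV hzV c)

set_option maxHeartbeats 1000000 in
/-- Rosenlicht: a simple commutative group variety which is not proper has a non-constant function. -/
theorem exists_nonconst
    (hsimple : ∀ (H : Over (Spec (CommRingCat.of k))) [GrpObj H] (h : H ⟶ C) [IsMonHom h] [IsClosedImmersion h.left]
      [Smooth H.hom] [ConnectedSpace H.left], IsIso η[H] ∨ IsIso h.left)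
    (hnp : ¬ IsProper C.hom) :
    ∃ (s : Γ(C.left, ⊤)) (a a' : 𝟙_ (Over (Spec (CommRingCat.of k))) ⟶ C),
      val a (U := ⊤) trivial s ≠ val a' (U := ⊤) trivial s := by
  classical
  haveI : Scheme.IsSeparated C.left := by
    haveI := terminal.comp_from C.hom ▸ (inferInstance : IsSeparated (C.hom ≫ terminal.from _))
    exact ⟨this⟩
  haveI : CompactSpace C.left := (quasiCompact_iff_compactSpace C.hom).mp inferInstance
  obtain ⟨R, y₀, hy₀, hdom, hno⟩ : ∃ (R : ValuationSubring C.left.functionField) (y : Spec (CommRingCat.of k))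
      (hy : C.hom (genericPoint C.left) ⤳ y), Proj16.Dominates C.hom R hy ∧ ∀ x, ¬ Proj16.IsCentre R x := by
    by_contra! hc
    exact hnp (Proj16.isProper_of_hasCentres C.hom fun R y hy hd => hc R y hy hd)
  have hR := constants_mem hy₀ hdom
  -- a finite affine cover, and a function with a pole on each member
  have hcov := fun z : C.left => C.left.isBasis_affineOpens.exists_subset_of_mem_open
    (Set.mem_univ z) isOpen_univ
  choose V hV hzV _ using hcov
  choose W hW hWV using hV
  obtain ⟨Z, hZ⟩ := isCompact_univ.elim_finite_subcover (fun z => (W z : Set C.left)) (fun z => (W z).2)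
    fun z _ => Set.mem_iUnion.mpr ⟨z, by rw [hWV]; exact hzV z⟩
  have hzW : ∀ z, z ∈ W z := fun z => by show z ∈ (W z : Set C.left); rw [hWV]; exact hzV z
  have hpole : ∀ z : C.left, ∃ c : Γ(C.left, W z),
      haveI : Nonempty (W z) := ⟨⟨z, hzW z⟩⟩
      C.left.germToFunctionField (W z) c ∉ R := by
    intro z
    haveI : Nonempty (W z) := ⟨⟨z, hzW z⟩⟩
    letI := secAlg (W z)
    haveI := finiteType_sections (hU' := hW z)
    obtain ⟨s, hs⟩ := (inferInstance : Algebra.FiniteType k Γ(C.left, W z)).out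
    obtain ⟨c, -, hc⟩ := germ_mem_of_no_centre hR hno (hW z) s hs
    exact ⟨c, hc⟩
  choose c hc using hpole
  let e : C.left → C.left.functionField := fun z =>
    haveI : Nonempty (W z) := ⟨⟨z, hzW z⟩⟩
    C.left.germToFunctionField (W z) (c z)
  let t : Finset C.left.functionField := Z.image fun z => (e z)⁻¹
  have he : ∀ z, e z ≠ 0 ∧ R.valuation (e z)⁻¹ < 1 := fun z => by
    have h0 : e z ≠ 0 := fun h => hc z (show e z ∈ R by rw [h]; exact R.zero_mem)
    refine ⟨h0, ?_⟩
    rw [map_inv₀, inv_lt_one₀ (zero_lt_iff.mpr (R.valuation.ne_zero_iff.mpr h0))]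
    exact not_le.mp fun h => hc z ((R.valuation_le_one_iff _).mp h)
  have htne : t.Nonempty := by
    refine Finset.image_nonempty.mpr ?_
    obtain ⟨z, hz, -⟩ := Set.mem_iUnion₂.mp (hZ (Set.mem_univ (genericPoint C.left)))
    exact ⟨z, hz⟩
  have ht : ∀ x ∈ t, x ≠ 0 ∧ R.valuation x < 1 := by
    intro x hx
    obtain ⟨z, -, rfl⟩ := Finset.mem_image.mp hx
    exact ⟨inv_ne_zero (he z).1, (he z).2⟩
  -- a chart
  let U := W (genericPoint C.left)
  haveI : Nonempty U := ⟨⟨genericPoint C.left, hzW _⟩⟩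
  have hU : IsAffineOpen U := hW _
  letI := secAlg U
  haveI := finiteType_sections (hU' := hU)
  obtain ⟨D, hpt, hσ⟩ := exists_ratAct hU
  obtain ⟨hst, -⟩ := affMap_germ (C := C) hU
  haveI := hst
  haveI := functionField_isFractionRing_of_isAffineOpen C.left U hU
  obtain ⟨n, g, hginj, hgfin⟩ := exists_finite_inj_algHom_of_fg k Γ(C.left, U)
  let b : Fin n → Γ(C.left, U) := g ∘ MvPolynomial.X
  have hb : AlgebraicIndependent k b := by
    refine algebraicIndependent_iff_injective_aeval.mpr ?_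
    rwa [show MvPolynomial.aeval b = g from MvPolynomial.algHom_ext fun i => by simp [b]]
  haveI halg : Algebra.IsAlgebraic (Algebra.adjoin k (Set.range b)) Γ(C.left, U) := by
    refine ⟨fun a => IsIntegral.isAlgebraic ?_⟩
    obtain ⟨p, hp, hpa⟩ := hgfin.to_isIntegral a
    have hrange : ∀ q, g q ∈ Algebra.adjoin k (Set.range b) := fun q => by
      rw [Algebra.adjoin_range_eq_range_aeval, show MvPolynomial.aeval b = g from MvPolynomial.algHom_ext fun i => by simp [b]]
      exact ⟨q, rfl⟩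
    refine ⟨p.map ((g.codRestrict _ hrange).toRingHom), hp.map _, ?_⟩
    rw [Polynomial.eval₂_map]
    exact hpa
  have hbT : IsTranscendenceBasis k b := hb.isTranscendenceBasis_iff_isAlgebraic.mpr halg
  haveI : Algebra.IsAlgebraic Γ(C.left, U) C.left.functionField :=
    IsLocalization.isAlgebraic _ (nonZeroDivisors _)
  have htT := hbT.algebraMap_comp (A := C.left.functionField)
  have htr : Algebra.trdeg k C.left.functionField = (n : Cardinal) := by
    rw [← Cardinal.lift_inj.{u, 0}, ← htT.lift_cardinalMk_eq_trdeg]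
    simp
  obtain ⟨m, rfl⟩ : ∃ m, n = m + 1 := by
    refine Nat.exists_eq_succ_of_ne_zero fun h0 => hc (genericPoint C.left) ?_
    subst h0
    haveI : Algebra.IsAlgebraic k C.left.functionField := htT.isEmpty_iff_isAlgebraic.mp inferInstance
    obtain ⟨a, ha⟩ := IsAlgClosed.algebraMap_bijective_of_isIntegral (k := k) (K := C.left.functionField) |>.2
      (e (genericPoint C.left))
    show e (genericPoint C.left) ∈ R
    rw [← ha]
    exact hR a
  obtain ⟨O, hO₁, hO₂, hO₃, y, hy, hyt⟩ := exists_val Γ(C.left, U) htr R hR t htne ht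
  have hbad : ∀ z : C.left, ∃ (V : C.left.Opens) (_ : Nonempty V) (_ : IsAffineOpen V), z ∈ V ∧
      ∃ c, C.left.germToFunctionField V c ∉ O := by
    intro z
    obtain ⟨z', hz', hzz'⟩ := Set.mem_iUnion₂.mp (hZ (Set.mem_univ z))
    haveI : Nonempty (W z') := ⟨⟨z', hzW z'⟩⟩
    refine ⟨W z', inferInstance, hW z', hzz', c z', fun hmem => ?_⟩
    obtain ⟨o, ho, hoe⟩ := hyt _ (Finset.mem_image_of_mem _ hz')
    refine ho (IsUnit.of_mul_eq_one ⟨_, hmem⟩ (Subtype.ext ?_))
    show (o : C.left.functionField) * e z' = 1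
    rw [hoe, inv_mul_cancel₀ (he z').1]
  obtain ⟨gens, hgens⟩ := (inferInstance : Algebra.FiniteType k Γ(C.left, U)).out
  haveI := htT.isAlgebraic
  obtain ⟨φ, g₁, hg₁, ⟨a, a', haa'⟩, hφ⟩ := exists_regular D (hpt ▸ cpt_injective hU)
    (hσ ▸ actEquiv_injective)
    (fun S hS g hg => by
      have hne : ((C.left.basicOpen g : C.left.Opens) : Set C.left).Nonempty := by
        rw [Set.nonempty_iff_ne_empty]
        exact fun h => hg (basicOpen_eq_bot_iff g |>.mp (TopologicalSpace.Opens.ext h))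
      obtain ⟨z, hz, gp, hγ, rfl⟩ : ∃ z ∈ (C.left.basicOpen g : Set C.left), ∃ gp ∈ S, pp gp = z := by
        obtain ⟨z, hz⟩ := hne
        obtain ⟨w, hw, gp, hγ, rfl⟩ := mem_closure_iff.mp (eq_univ_of_infinite_monoid hsimple S hS ▸ Set.mem_univ z)
          _ (C.left.basicOpen g).2 hz
        exact ⟨_, hw, gp, hγ, rfl⟩
      obtain ⟨x, hx⟩ := exists_cpt hU gp (C.left.basicOpen_le g hz)
      exact ⟨x, by rw [hpt, hx]; exact hγ, (cpt_mem_basicOpen hU x g).mp (hx ▸ hz)⟩)
    htr b hb _ htT.1 O y hy gens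
    (fun x => by
      obtain ⟨c', hc', hc''⟩ := act_notMem hU hbad (D.pt x) gens hgens
      refine ⟨c', hc', ?_⟩
      show D.σ (D.pt x) _ ∉ O
      rw [hσ, actEquiv_apply]
      exact hc'')
  -- gluing
  obtain ⟨x₁, hx₁⟩ := CurveConnLib.exists_point_ne_zero (k := k) _ hg₁
  have hloc : ∀ gp, ∃ (V : C.left.Opens) (s : Γ(C.left, V)), pp gp ∈ V ∧
      ∀ gp' (h' : pp gp' ∈ V), val gp' h' s = φ gp' := by
    intro gp
    let a₀ := gp * (cpt hU x₁)⁻¹
    obtain ⟨c₁, N, hN⟩ := hφ a₀
    have hu := RingedSpace.isUnit_res_basicOpen C.left.toRingedSpace g₁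
    let res := (C.left.presheaf.map (homOfLE (C.left.basicOpen_le g₁)).op).hom
    let s₀ : Γ(C.left, C.left.basicOpen g₁) := res c₁ * (((hu.unit⁻¹ : Γ(C.left, C.left.basicOpen g₁)ˣ) : Γ(C.left, C.left.basicOpen g₁))) ^ N
    refine ⟨(tr a₀⁻¹).left ⁻¹ᵁ C.left.basicOpen g₁, ((tr a₀⁻¹).left.appLE _ _ le_rfl).hom s₀, ?_, fun gp' h' => ?_⟩
    · show (tr a₀⁻¹).left (pp gp) ∈ C.left.basicOpen g₁
      rw [pp, ← Scheme.Hom.comp_apply, ← Over.comp_left, pt_tr]
      rw [show a₀⁻¹ * gp = cpt hU x₁ by simp [a₀]]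
      exact (cpt_mem_basicOpen hU x₁ g₁).mpr hx₁
    · rw [val_pullback]
      have h1 : pp (a₀⁻¹ * gp') ∈ C.left.basicOpen g₁ := by rw [← pt_tr]; exact h'
      rw [val_congr (pt_tr gp' a₀⁻¹) _ h1]
      obtain ⟨x, hx⟩ := exists_cpt hU _ (C.left.basicOpen_le g₁ h1)
      have hxg : x g₁ ≠ 0 := (cpt_mem_basicOpen hU x g₁).mp (hx ▸ h1)
      have hres : ∀ r, val (a₀⁻¹ * gp') h1 (res r) = x r := fun r => by
        rw [val_res, val_congr hx.symm _ (cpt_mem hU x), val_cpt]
      have h2 := hN x hxg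
      rw [hpt, hx, mul_inv_cancel_left] at h2
      have h3 : val (a₀⁻¹ * gp') h1 (hu.unit⁻¹ : Γ(C.left, C.left.basicOpen g₁)ˣ) * x g₁ = 1 := by
        rw [← hres g₁]
        simp only [val, ← map_mul]
        rw [show ((hu.unit⁻¹ : Γ(C.left, C.left.basicOpen g₁)ˣ) : Γ(C.left, C.left.basicOpen g₁)) * res g₁ = 1 from
          hu.val_inv_mul, map_one]
      have h4 : val (a₀⁻¹ * gp') h1 s₀ = x c₁ * (val (a₀⁻¹ * gp') h1 (hu.unit⁻¹ : Γ(C.left, C.left.basicOpen g₁)ˣ)) ^ N := by
        rw [← hres c₁]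
        simp only [val, s₀, map_mul, map_pow]
      rw [h4, ← h2, _root_.mul_assoc, ← mul_pow, mul_comm (x g₁), h3, one_pow, _root_.mul_one]
  obtain ⟨s, hs⟩ := exists_glue φ hloc
  exact ⟨s, a, a', by rw [hs, hs]; exact haa'⟩

end Groth.Agent.Chevalley.Val
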