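import Groth.Agent.GrpSchLib.DenseRed
import Mathlib.AlgebraicGeometry.FunctionField
import Mathlib.AlgebraicGeometry.AlgClosed.Basic
import Mathlib.CategoryTheory.Monoidal.Cartesian.Over

/-!
Affine schemes over a field, rational points, and values of functions at points.
-/

universe u

noncomputable section

open CategoryTheory AlgebraicGeometry MonoidalCategory CartesianMonoidalCategory

namespace Groth.Agent.Chevalley.Val

variable {k : Type u} [Field k]

/-- The spectrum of an algebra, over the base. -/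
abbrev aff (R : Type u) [CommRing R] [Algebra k R] : Over (Spec (CommRingCat.of k)) :=
  Over.mk (Spec.map (CommRingCat.ofHom (algebraMap k R)))

/-- The map of spectra of an algebra map. -/
def affMap {R R' : Type u} [CommRing R] [Algebra k R] [CommRing R'] [Algebra k R'] (f : R →ₐ[k] R') :
    aff (k := k) R' ⟶ aff R :=
  Over.homMk (Spec.map (CommRingCat.ofHom f.toRingHom)) (by
    show Spec.map _ ≫ Spec.map _ = Spec.map _
    rw [← Spec.map_comp, ← CommRingCat.ofHom_comp]
    congr 2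
    exact f.comp_algebraMap)

theorem affMap_comp {R R' R'' : Type u} [CommRing R] [Algebra k R] [CommRing R'] [Algebra k R'] [CommRing R'']
    [Algebra k R''] (f : R →ₐ[k] R') (g : R' →ₐ[k] R'') : affMap g ≫ affMap f = affMap (g.comp f) := by
  refine Over.OverMorphism.ext ?_
  show Spec.map _ ≫ Spec.map _ = Spec.map _
  rw [← Spec.map_comp]
  rfl

theorem affMap_id {R : Type u} [CommRing R] [Algebra k R] : affMap (AlgHom.id k R) = 𝟙 (aff (k := k) R) :=
  Over.OverMorphism.ext (Spec.map_id _)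

theorem affMap_inj {R R' : Type u} [CommRing R] [Algebra k R] [CommRing R'] [Algebra k R'] {f g : R →ₐ[k] R'}
    (h : affMap f = affMap g) : f = g :=
  AlgHom.coe_ringHom_injective (congrArg CommRingCat.Hom.hom (Spec.map_injective (congrArg CommaMorphism.left h)))

theorem exists_affMap_eq {R R' : Type u} [CommRing R] [Algebra k R] [CommRing R'] [Algebra k R']
    (φ : aff (k := k) R' ⟶ aff R) : ∃ f : R →ₐ[k] R', affMap f = φ := by
  obtain ⟨ψ, hψ⟩ := Spec.map_surjective φ.left
  have h : CommRingCat.ofHom (algebraMap k R) ≫ ψ = CommRingCat.ofHom (algebraMap k R') :=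
    Spec.map_injective (by rw [Spec.map_comp, hψ]; exact Over.w φ)
  exact ⟨AlgHom.mk ψ.hom fun c => congrArg (fun r => r.hom c) h, Over.OverMorphism.ext hψ⟩

/-- The point of the base. -/
def basePt : 𝟙_ (Over (Spec (CommRingCat.of k))) ⟶ aff (k := k) k :=
  Over.homMk (𝟙 _) (by
    show 𝟙 _ ≫ Spec.map _ = 𝟙 _
    rw [Category.id_comp, ← Spec.map_id]
    rfl)

variable {C : Over (Spec (CommRingCat.of k))}

/-- The algebra of functions on an open set. -/
abbrev secAlg (U : C.left.Opens) : Algebra k Γ(C.left, U) :=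
  ((Scheme.ΓSpecIso (CommRingCat.of k)).inv ≫ C.hom.appLE ⊤ U le_top).hom.toAlgebra

/-- The underlying point. -/
def pp (γ : 𝟙_ (Over (Spec (CommRingCat.of k))) ⟶ C) : C.left := γ.left (IsLocalRing.closedPoint k)

theorem le_preimage_of_mem (γ : 𝟙_ (Over (Spec (CommRingCat.of k))) ⟶ C) {U : C.left.Opens} (h : pp γ ∈ U) :
    ⊤ ≤ γ.left ⁻¹ᵁ U := fun x _ => by
  show γ.left x ∈ U
  rw [show x = IsLocalRing.closedPoint k from Subsingleton.elim (α := Spec (CommRingCat.of k)) _ _]
  exact h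

/-- The value of a function at a point. -/
def val (γ : 𝟙_ (Over (Spec (CommRingCat.of k))) ⟶ C) {U : C.left.Opens} (h : pp γ ∈ U) (s : Γ(C.left, U)) : k :=
  (γ.left.appLE U ⊤ (le_preimage_of_mem γ h) ≫ (Scheme.ΓSpecIso (CommRingCat.of k)).hom).hom s

theorem val_res (γ : 𝟙_ (Over (Spec (CommRingCat.of k))) ⟶ C) {U V : C.left.Opens} (hVU : V ≤ U) (h : pp γ ∈ V)
    (s : Γ(C.left, U)) : val γ h ((C.left.presheaf.map (homOfLE hVU).op).hom s) = val γ (hVU h) s := by
  rw [val, val, ← CommRingCat.comp_apply, ← Category.assoc, Scheme.Hom.map_appLE]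

theorem val_congr {γ γ' : 𝟙_ (Over (Spec (CommRingCat.of k))) ⟶ C} (e : γ = γ') {U : C.left.Opens} (h : pp γ ∈ U)
    (h' : pp γ' ∈ U) (s : Γ(C.left, U)) : val γ h s = val γ' h' s := by
  subst e; rfl

theorem val_pullback {C' : Over (Spec (CommRingCat.of k))} (f : C ⟶ C') (γ : 𝟙_ (Over (Spec (CommRingCat.of k))) ⟶ C)
    {U : C.left.Opens} {U' : C'.left.Opens} (e : U ≤ f.left ⁻¹ᵁ U') (h : pp γ ∈ U) (s : Γ(C'.left, U')) :
    val γ h ((f.left.appLE U' U e).hom s) =
      val (γ ≫ f) (show pp (γ ≫ f) ∈ U' by exact e h) s := by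
  rw [val, val, ← CommRingCat.comp_apply, ← Category.assoc, Scheme.Hom.appLE_comp_appLE]
  rfl

/-- The point of an affine open set given by a point of its algebra. -/
def chartPt {U : C.left.Opens} (hU : IsAffineOpen U) :
    letI := secAlg U
    aff (k := k) Γ(C.left, U) ⟶ C :=
  letI := secAlg U
  Over.homMk hU.fromSpec (by
    show hU.fromSpec ≫ C.hom = Spec.map ((Scheme.ΓSpecIso (CommRingCat.of k)).inv ≫ C.hom.appLE ⊤ U le_top)
    rw [Spec.map_comp, ← IsAffineOpen.SpecMap_appLE_fromSpec C.hom (isAffineOpen_top _) hU le_top,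
      IsAffineOpen.fromSpec_top, Scheme.isoSpec_Spec_inv])

instance chartPt_isOpenImmersion {U : C.left.Opens} (hU : IsAffineOpen U) :
    IsOpenImmersion (chartPt hU).left :=
  inferInstanceAs (IsOpenImmersion hU.fromSpec)

variable [IsAlgClosed k] [LocallyOfFiniteType C.hom]

theorem exists_point {U : C.left.Opens} (hU : (U : Set C.left).Nonempty) :
    ∃ γ : 𝟙_ (Over (Spec (CommRingCat.of k))) ⟶ C, pp γ ∈ U := by
  haveI : JacobsonSpace C.left := LocallyOfFiniteType.jacobsonSpace C.hom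
  obtain ⟨c, hc, hcc⟩ := nonempty_inter_closedPoints hU U.2.isLocallyClosed
  refine ⟨Over.homMk (pointOfClosedPoint C.hom c hcc) (pointOfClosedPoint_comp C.hom c hcc), ?_⟩
  have e : pointOfClosedPoint C.hom c hcc (IsLocalRing.closedPoint k) = c := pointOfClosedPoint_apply C.hom c hcc _
  show pointOfClosedPoint C.hom c hcc (IsLocalRing.closedPoint k) ∈ U
  rw [e]
  exact hc

theorem eq_zero_of_val [IsReduced C.left] {U : C.left.Opens} (s : Γ(C.left, U))
    (h : ∀ (γ : 𝟙_ (Over (Spec (CommRingCat.of k))) ⟶ C) (hγ : pp γ ∈ U), val γ hγ s = 0) : s = 0 := by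
  rw [← basicOpen_eq_bot_iff]
  by_contra hne
  obtain ⟨γ, hγ⟩ := exists_point (C := C) (U := C.left.basicOpen s)
    (Set.nonempty_iff_ne_empty.mpr fun e => hne (TopologicalSpace.Opens.ext e))
  have hU := C.left.basicOpen_le s hγ
  have h1 := h γ hU
  have h2 : IsUnit (val γ hU s) := by
    have h3 : IsUnit ((C.left.presheaf.map (homOfLE (C.left.basicOpen_le s)).op).hom s) :=
      RingedSpace.isUnit_res_basicOpen C.left.toRingedSpace s
    rw [← val_res γ (C.left.basicOpen_le s) hγ s]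
    exact h3.map (γ.left.appLE _ ⊤ (le_preimage_of_mem γ hγ) ≫ (Scheme.ΓSpecIso (CommRingCat.of k)).hom).hom
  exact h2.ne_zero h1

theorem ext_of_val [IsReduced C.left] {U : C.left.Opens} {s s' : Γ(C.left, U)}
    (h : ∀ (γ : 𝟙_ (Over (Spec (CommRingCat.of k))) ⟶ C) (hγ : pp γ ∈ U), val γ hγ s = val γ hγ s') : s = s' := by
  rw [← sub_eq_zero]
  refine eq_zero_of_val _ fun γ hγ => ?_
  have := h γ hγ
  simp only [val] at this ⊢
  rw [map_sub, this, sub_self]

/-- Functions given locally glue to a function. -/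
theorem exists_glue [IsReduced C.left] (φ : (𝟙_ (Over (Spec (CommRingCat.of k))) ⟶ C) → k)
    (h : ∀ γ, ∃ (U : C.left.Opens) (s : Γ(C.left, U)), pp γ ∈ U ∧
      ∀ γ' (h' : pp γ' ∈ U), val γ' h' s = φ γ') :
    ∃ s : Γ(C.left, ⊤), ∀ γ, val γ (U := ⊤) trivial s = φ γ := by
  choose U s hU hs using h
  have hcover : (⊤ : C.left.Opens) ≤ iSup U := by
    intro x _
    by_contra hx
    haveI : JacobsonSpace C.left := LocallyOfFiniteType.jacobsonSpace C.hom
    obtain ⟨c, hc, hcc⟩ := nonempty_inter_closedPoints (Z := ((iSup U : C.left.Opens) : Set C.left)ᶜ) ⟨x, hx⟩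
      (iSup U).2.isClosed_compl.isLocallyClosed
    let γ : 𝟙_ (Over (Spec (CommRingCat.of k))) ⟶ C :=
      Over.homMk (pointOfClosedPoint C.hom c hcc) (pointOfClosedPoint_comp C.hom c hcc)
    have : pp γ = c := pointOfClosedPoint_apply C.hom c hcc _
    exact hc (TopologicalSpace.Opens.mem_iSup.mpr ⟨γ, this ▸ hU γ⟩)
  have hcomp : TopCat.Presheaf.IsCompatible C.left.sheaf.1 U s := by
    intro i j
    refine ext_of_val (C := C) fun γ hγ => ?_
    exact ((val_res γ inf_le_left hγ (s i)).trans (hs i γ _)).trans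
      ((val_res γ inf_le_right hγ (s j)).trans (hs j γ _)).symm
  obtain ⟨g, hg, -⟩ := C.left.sheaf.existsUnique_gluing' U ⊤ (fun i => homOfLE le_top) hcover s hcomp
  refine ⟨g, fun γ => ?_⟩
  rw [← hs γ γ (hU γ), ← hg γ]
  exact (val_res γ le_top (hU γ) g).symm

end Groth.Agent.Chevalley.Val
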