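import Groth.Agent.Chevalley.Val.Stab

/-!
The non-constant regular function.
-/

universe u

noncomputable section

open TensorProduct IsLocalRing

namespace Groth.Agent.Chevalley.Val

variable {k B K Γ : Type u} [Field k] [IsAlgClosed k] [CommRing B] [IsDomain B] [Algebra k B]
  [Algebra.FiniteType k B] [Field K] [Algebra k K] [CommGroup Γ]

set_option maxHeartbeats 4000000 in
/-- A function on the group, regular on every translate of an open set, and not constant. -/
theorem exists_regular (D : RatAct k B K Γ) [Algebra B K] [IsScalarTower k B K] [IsFractionRing B K]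
    (hinj : Function.Injective D.pt) (hfaith : Function.Injective D.σ)
    (hdense : ∀ S : Submonoid Γ, (S : Set Γ).Infinite → ∀ g : B, g ≠ 0 → ∃ x, D.pt x ∈ S ∧ x g ≠ 0)
    {m : ℕ} (hm : Algebra.trdeg k K = ((m + 1 : ℕ) : Cardinal))
    (b : Fin (m + 1) → B) (hb : AlgebraicIndependent k b) [Algebra.IsAlgebraic (Algebra.adjoin k (Set.range b)) B]
    (t : Fin (m + 1) → K) (ht : AlgebraicIndependent k t) [Algebra.IsAlgebraic (Algebra.adjoin k (Set.range t)) K]
    (O : Subalgebra k K) [IsLocalRing O] [ValuationRing O] [IsFractionRing O K]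
    (y : Fin m → O) (hy : AlgebraicIndependent k (resA O ∘ y))
    (gens : Finset B) (hno : ∀ x, ∃ c ∈ gens, D.act x (algebraMap B K c) ∉ O) :
    ∃ (φ : Γ → k) (g : B), g ≠ 0 ∧ (∃ γ γ', φ γ ≠ φ γ') ∧
      ∀ γ₀ : Γ, ∃ (c : B) (N : ℕ), ∀ x : B →ₐ[k] k, x g ≠ 0 → φ (γ₀ * D.pt x) * x g ^ N = x c := by
  classical
  obtain ⟨hadd, hmul, h1, hM0⟩ := inM_props D O
  obtain ⟨c₀, hc₀, hnot⟩ := exists_notMem D O gens (fun c => algebraMap B K c) hno
  have hc₀0 : algebraMap B K c₀ ≠ 0 := fun h => hnot (h ▸ (genRing D O).zero_mem)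
  have hMa₀ : InM D O (algebraMap B K c₀)⁻¹ := (inM_or_inv D O hc₀0).resolve_left hnot
  obtain ⟨z, hzW, hz⟩ := exists_indep D O rfl b hb t ht y hy
  obtain ⟨A, hAft, hAfr, p, hp', hAW, hp, hdim, hloc⟩ := exists_model (K := K) B hm (genRing D O) (InM D O)
    (fun a => inM_mem D O) (fun a => inM_or_inv D O) hadd hmul h1 (inv_ne_zero hc₀0) hMa₀ hM0 z hzW hz
  haveI := hAft
  haveI := hAfr
  haveI := hp'
  haveI : IsNoetherianRing A := Algebra.FiniteType.isNoetherianRing k A
  obtain ⟨G, hG⟩ := hAft.out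
  obtain ⟨S, F, hS, hF⟩ := exists_uniform D O A p hp hloc hAW G
  obtain ⟨x₀, hu, y₀, hy₀, hv⟩ := (hS.and (D.inv hS)).exists
  have hcomp : ∀ w, D.act x₀ (D.act y₀ w) = w := fun w => by
    simp only [RatAct.act, hy₀, ← AlgEquiv.mul_apply, ← map_mul, mul_inv_cancel, map_one, AlgEquiv.one_apply]
  obtain ⟨a, u', hu', hau⟩ := hloc _ (genRing_invariant D O (D.pt x₀) (hAW (evA y₀ S).2))
  have ha : a ∉ p := fun h => hv ((hp _).mpr (by
    have hu0 : (u' : K) ≠ 0 := fun e => hu' ((hp u').mpr (by rw [e]; exact hM0))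
    have hu'inv : (u' : K)⁻¹ ∈ genRing D O := (inM_or_inv D O (inv_ne_zero hu0)).resolve_right (by
      rw [inv_inv]; exact fun h' => hu' ((hp u').mpr h'))
    have h2 := hmul _ _ hu'inv ((hp a).mp h)
    rw [← hau, mul_comm, mul_inv_cancel_right₀ hu0] at h2
    have h3 := inM_invariant D O (D.pt x₀)⁻¹ h2
    rwa [← AlgEquiv.mul_apply, ← map_mul, inv_mul_cancel, map_one, AlgEquiv.one_apply] at h3))
  -- a point of the divisor
  have hne : Ideal.Quotient.mkₐ k p (evA x₀ S * a * u') ≠ 0 := by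
    rw [ne_eq, Ideal.Quotient.mkₐ_eq_mk, Ideal.Quotient.eq_zero_iff_mem]
    intro h
    rcases Ideal.IsPrime.mem_or_mem inferInstance h with h | h
    · exact (Ideal.IsPrime.mem_or_mem inferInstance h).elim hu ha
    · exact hu' h
  obtain ⟨c, hc⟩ := CurveConnLib.exists_point_ne_zero (k := k) (A ⧸ p) hne
  let χ₀ : A →ₐ[k] k := c.comp (Ideal.Quotient.mkₐ k p)
  have hχp : ∀ r ∈ p, χ₀ r = 0 := fun r hr => by
    show c (Ideal.Quotient.mk p r) = 0
    rw [Ideal.Quotient.eq_zero_iff_mem.mpr hr, map_zero]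
  rw [map_mul, map_mul, map_mul, map_mul, mul_ne_zero_iff, mul_ne_zero_iff] at hc
  obtain ⟨⟨hχS, hχa⟩, hχu⟩ := hc
  change χ₀ (evA x₀ S) ≠ 0 at hχS
  change χ₀ a ≠ 0 at hχa
  change χ₀ u' ≠ 0 at hχu
  let e := push D G hG S F hF hχS
  have hev : e (evA y₀ S) ≠ 0 := by
    have := locEval_spec (χ := χ₀) ⟨_, act_mem_locRing D G hG S F hF hχS (evA y₀ S)⟩ a u' hχu hau
    rw [← push_apply D G hG S F hF hχS] at this
    intro h0
    rw [show push D G hG S F hF hχS (evA y₀ S) = 0 from h0, zero_mul] at this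
    exact hχa this.symm
  have hpush₀ : push D G hG S F hF hev = χ₀ := AlgHom.ext fun r => by
    obtain ⟨h', he⟩ := locRing_natural D G hG S F hF hχS (act_mem_locRing D G hG S F hF hev r)
    rw [push_apply, ← he, ← locEval_coe χ₀ r]
    exact congrArg (locEval χ₀) (Subtype.ext (hcomp r.1))
  -- the stabiliser of the point
  let St : Submonoid Γ :=
    { carrier := {γ | ∀ (w : K) (hw : w ∈ locRing e),
        ∃ h : D.σ γ w ∈ locRing e, locEval e ⟨_, h⟩ = locEval e ⟨w, hw⟩}
      one_mem' := fun w hw => ⟨by rw [map_one]; exact hw, congrArg (locEval e) (Subtype.ext (by simp))⟩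
      mul_mem' := fun {γ δ} hγ hδ w hw => by
        obtain ⟨h₁, e₁⟩ := hδ w hw
        obtain ⟨h₂, e₂⟩ := hγ _ h₁
        exact ⟨by rw [map_mul, AlgEquiv.mul_apply]; exact h₂,
          (congrArg (locEval e) (Subtype.ext (DFunLike.congr_fun (map_mul D.σ γ δ) w))).trans (e₂.trans e₁)⟩ }
  have hcong : ∀ {χ χ' : A →ₐ[k] k}, χ = χ' → ∀ (w : K) (h : w ∈ locRing χ) (h' : w ∈ locRing χ'),
      locEval χ ⟨w, h⟩ = locEval χ' ⟨w, h'⟩ := by
    rintro χ _ rfl w h h'
    rfl
  have hpushSt : ∀ {x : B →ₐ[k] k} (hx : e (evA x S) ≠ 0), push D G hG S F hF hx = e → D.pt x ∈ St := by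
    intro x hx h w hw
    obtain ⟨h', he⟩ := locRing_natural D G hG S F hF hx (w := w) (by rw [h]; exact hw)
    exact ⟨h', he.trans (hcong h _ _ _)⟩
  have hfibSt : ∀ {x : B →ₐ[k] k} (hx : χ₀ (evA x S) ≠ 0), push D G hG S F hF hx = e → D.pt x * D.pt y₀ ∈ St := by
    intro x hx h w hw
    obtain ⟨h₁, e₁⟩ := locRing_natural D G hG S F hF hx (w := w) (by rw [h]; exact hw)
    obtain ⟨h₂, e₂⟩ := locRing_natural D G hG S F hF hev (w := D.act x w) (by rw [hpush₀]; exact h₁)
    have hcm : D.σ (D.pt x * D.pt y₀) w = D.act y₀ (D.act x w) := by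
      rw [mul_comm, map_mul]; rfl
    refine ⟨hcm ▸ h₂, (congrArg (locEval e) (Subtype.ext hcm)).trans (e₂.trans ?_)⟩
    exact (hcong hpush₀ _ _ h₁).trans (e₁.trans (hcong h _ _ _))
  -- infinitely many translations preserve the point
  let red : B ⊗[k] A →ₐ[k] B :=
    Algebra.TensorProduct.lift (AlgHom.id k B) ((Algebra.ofId k B).comp χ₀) fun _ _ => Commute.all _ _
  have hred : ∀ (x : B →ₐ[k] k) (f : B ⊗[k] A), x (red f) = χ₀ (evA x f) := by
    intro x f
    induction f with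
    | zero => simp
    | tmul b r => simp [red, Algebra.ofId_apply]
    | add p q hp hq => simp only [map_add, hp, hq]
  let g₁ := red S
  have hg₁ : g₁ ≠ 0 := fun h => hχS (by rw [← hred, show red S = 0 from h, map_zero])
  haveI := isDomain_away hg₁
  let R := Localization.Away g₁
  have hψex : ∀ r : A, ∃ q : R, ∀ (x : B →ₐ[k] k) (hx : x g₁ ≠ 0),
      ptAway x hx q = push D G hG S F hF (show χ₀ (evA x S) ≠ 0 by rw [← hred]; exact hx) r := by
    intro r
    have hr : r ∈ Algebra.adjoin k (G : Set A) := hG ▸ Algebra.mem_top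
    induction hr using Algebra.adjoin_induction with
    | mem r hr =>
      refine ⟨algebraMap B R (red (F r)) * IsLocalization.Away.invSelf g₁, fun x hx => ?_⟩
      have h1 := congrArg (ptAway x hx) (IsLocalization.Away.mul_invSelf (S := R) g₁)
      rw [map_mul, map_one, ptAway_algebraMap] at h1
      have hxS : χ₀ (evA x S) ≠ 0 := by rw [← hred]; exact hx
      have e2 : x g₁ = χ₀ (evA x S) := hred x S
      rw [e2] at h1
      rw [map_mul, ptAway_algebraMap, hred, ← push_mul D G hG S F hF hxS hr, mul_assoc, h1, mul_one]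
    | algebraMap r => exact ⟨algebraMap k R r, fun x hx => by rw [AlgHom.commutes, AlgHom.commutes]⟩
    | add r r' _ _ h h' =>
      obtain ⟨q, hq⟩ := h
      obtain ⟨q', hq'⟩ := h'
      exact ⟨q + q', fun x hx => by rw [map_add, map_add, hq, hq']⟩
    | mul r r' _ _ h h' =>
      obtain ⟨q, hq⟩ := h
      obtain ⟨q', hq'⟩ := h'
      exact ⟨q * q', fun x hx => by rw [map_mul, map_mul, hq, hq']⟩
  choose ψ hψ using hψex
  let Ψ : A →ₐ[k] R :=
    { toFun := ψ
      map_one' := away_ext' (k := k) hg₁ fun x hx => by rw [hψ, map_one, map_one]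
      map_mul' := fun r r' => away_ext' (k := k) hg₁ fun x hx => by rw [map_mul, hψ, hψ, hψ, map_mul]
      map_zero' := away_ext' (k := k) hg₁ fun x hx => by rw [hψ, map_zero, map_zero]
      map_add' := fun r r' => away_ext' (k := k) hg₁ fun x hx => by rw [map_add, hψ, hψ, hψ, map_add]
      commutes' := fun r => away_ext' (k := k) hg₁ fun x hx => by rw [hψ, AlgHom.commutes, AlgHom.commutes] }
  have hΨp : ∀ r ∈ p, Ψ r = 0 := fun r hr => away_ext' (k := k) hg₁ fun x hx => by
    have hxS : χ₀ (evA x S) ≠ 0 := by rw [← hred]; exact hx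
    show ptAway x hx (ψ r) = _
    rw [hψ, map_zero, push_apply]
    obtain ⟨r₁, r₂, hr₂, hrr⟩ := act_mem_locRing D G hG S F hF hxS r
    have hr₁ : r₁ ∈ p := (hp r₁).mpr (by
      rw [← hrr, mul_comm]
      exact hmul _ _ (hAW r₂.2) (inM_invariant D O (D.pt x) ((hp r).mp hr)))
    have := locEval_spec (χ := χ₀) ⟨_, act_mem_locRing D G hG S F hF hxS r⟩ r₁ r₂ hr₂ hrr
    rw [hχp _ hr₁] at this
    exact (mul_eq_zero.mp this).resolve_right hr₂
  have hx₀g : x₀ g₁ ≠ 0 := by rw [hred]; exact hχS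
  have htr : Algebra.trdeg k (FractionRing R) = ((m + 1 : ℕ) : Cardinal) := by
    letI : Algebra R K := (IsLocalization.Away.lift g₁ (g := algebraMap B K)
      (isUnit_iff_ne_zero.mpr ((map_ne_zero_iff _ (IsFractionRing.injective B K)).mpr hg₁))).toAlgebra
    haveI : IsScalarTower B R K := IsScalarTower.of_algebraMap_eq fun b =>
      (IsLocalization.Away.lift_eq _ _ b).symm
    haveI : IsScalarTower k R K := IsScalarTower.of_algebraMap_eq fun r => by
      rw [IsScalarTower.algebraMap_apply k B R, ← IsScalarTower.algebraMap_apply B R K, ← IsScalarTower.algebraMap_apply]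
    haveI : IsFractionRing R K :=
      IsFractionRing.isFractionRing_of_isDomain_of_isLocalization (Submonoid.powers g₁) R K
    rw [← hm]
    exact ((FractionRing.algEquiv R K).restrictScalars k).trdeg_eq
  have hinf := infinite_fibre hdim htr (Ideal.Quotient.liftₐ p Ψ hΨp) (ptAway x₀ hx₀g)
  have hSt : (St : Set Γ).Infinite := by
    let j : (R →ₐ[k] k) → Γ := fun q => D.pt (q.comp (IsScalarTower.toAlgHom k B R)) * D.pt y₀
    have hj : Function.Injective j := fun q q' h => by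
      have h' := hinj (mul_right_cancel h)
      refine AlgHom.coe_ringHom_injective (IsLocalization.ringHom_ext (Submonoid.powers g₁) ?_)
      exact congrArg AlgHom.toRingHom h'
    refine (hinf.image hj.injOn).mono ?_
    rintro _ ⟨q, hq, rfl⟩
    obtain ⟨x, hx, rfl⟩ := exists_ptAway_eq q
    have hxx : (ptAway x hx).comp (IsScalarTower.toAlgHom k B R) = x := AlgHom.ext fun b => ptAway_algebraMap x hx b
    show j _ ∈ St
    simp only [j, hxx]
    refine hfibSt (show χ₀ (evA x S) ≠ 0 by rw [← hred]; exact hx) (AlgHom.ext fun r => ?_)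
    have := AlgHom.congr_fun hq (Ideal.Quotient.mkₐ k p r)
    simp only [AlgHom.comp_apply, Ideal.Quotient.mkₐ_eq_mk, Ideal.Quotient.liftₐ_apply, Ideal.Quotient.lift_mk] at this
    exact (hψ r x hx).symm.trans (this.trans (hψ r x₀ hx₀g))
  -- hence all of them do
  let red' : B ⊗[k] A →ₐ[k] B :=
    Algebra.TensorProduct.lift (AlgHom.id k B) ((Algebra.ofId k B).comp e) fun _ _ => Commute.all _ _
  have hred' : ∀ (x : B →ₐ[k] k) (f : B ⊗[k] A), x (red' f) = e (evA x f) := by
    intro x f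
    induction f with
    | zero => simp
    | tmul b r => simp [red', Algebra.ofId_apply]
    | add p q hp hq => simp only [map_add, hp, hq]
  let g := red' S
  have hg : g ≠ 0 := fun h => hev (by rw [← hred', show red' S = 0 from h, map_zero])
  have hV : ∀ {x : B →ₐ[k] k} (hx : e (evA x S) ≠ 0), push D G hG S F hF hx = e := by
    have hid : ∀ r ∈ G, red' (F r) - algebraMap k B (e r) * g = 0 := by
      intro r hr
      by_contra hne
      obtain ⟨x, hxS, hx⟩ := hdense St hSt _ (mul_ne_zero hg hne)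
      rw [map_mul, mul_ne_zero_iff, map_sub, map_mul, AlgHom.commutes, hred', hred'] at hx
      obtain ⟨hx1, hx2⟩ := hx
      refine hx2 ?_
      rw [← push_mul D G hG S F hF hx1 hr, push_apply]
      obtain ⟨h, he⟩ := hxS r.1 (le_locRing e r.2)
      rw [show (⟨D.act x r.1, act_mem_locRing D G hG S F hF hx1 r⟩ : locRing e) = ⟨_, h⟩ from rfl, he, locEval_coe]
      exact sub_self _
    intro x hx
    refine AlgHom.ext_of_adjoin_eq_top hG fun r hr => ?_
    have h0 := congrArg x (hid r hr)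
    rw [map_sub, map_mul, AlgHom.commutes, map_zero, hred', hred', sub_eq_zero,
      ← push_mul D G hG S F hF hx hr] at h0
    exact mul_right_cancel₀ hx h0
  have hall : ∀ γ : Γ, γ ∈ St := by
    intro γ
    have hQ : Gen fun x : B →ₐ[k] k => e (evA x S) ≠ 0 := ⟨g, hg, fun x hx => by show e (evA x S) ≠ 0; rw [← hred']; exact hx⟩
    obtain ⟨x', hx', x'', hx'', hx''g⟩ := (hQ.and (D.inv (D.transl γ hQ))).exists
    obtain ⟨w', hw', hw'g⟩ := hx''g
    have : D.pt x' * D.pt w' = γ := by rw [hw', hx'', ← mul_assoc, mul_comm (D.pt x') γ, mul_inv_cancel_right]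
    rw [← this]
    exact St.mul_mem (hpushSt hx' (hV hx')) (hpushSt hw'g (hV hw'g))
  -- the representation on the infinitesimal neighbourhoods
  let m' : Ideal A := RingHom.ker e
  haveI : m'.IsMaximal := RingHom.ker_isMaximal_of_surjective e fun r => ⟨algebraMap k A r, e.commutes r⟩
  have hunit : ∀ (N : ℕ) (u : A), e u ≠ 0 → IsUnit (Ideal.Quotient.mkₐ k (m' ^ N) u) := by
    intro N u hu
    have h2 : IsNilpotent (Ideal.Quotient.mkₐ k (m' ^ N) (u - algebraMap k A (e u))) := ⟨N, by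
      rw [← map_pow, Ideal.Quotient.mkₐ_eq_mk, Ideal.Quotient.eq_zero_iff_mem]
      exact Ideal.pow_mem_pow (by simp [m', RingHom.mem_ker]) N⟩
    have h3 : IsUnit (algebraMap k (A ⧸ m' ^ N) (e u)) := (isUnit_iff_ne_zero.mpr hu).map _
    have h4 := h2.isUnit_add_left_of_commute h3 (Commute.all _ _)
    rwa [map_sub, AlgHom.commutes, add_sub_cancel] at h4
  let φN : ∀ N, locRing e →ₐ[k] A ⧸ m' ^ N := fun N => locExt (Ideal.Quotient.mkₐ k (m' ^ N)) (hunit N)
  have hmem : ∀ (γ : Γ) {w : K}, w ∈ locRing e → D.σ γ w ∈ locRing e := fun γ w hw => (hall γ w hw).choose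
  obtain ⟨γ₁, hγ₁⟩ : ∃ γ : Γ, γ ≠ 1 := by
    obtain ⟨γ, _, δ, _, h⟩ := hSt.nontrivial
    by_contra! hh
    exact h ((hh γ).trans (hh δ).symm)
  obtain ⟨r₀, hr₀⟩ : ∃ r : A, D.σ γ₁ r.1 ≠ r.1 := by
    by_contra! h
    refine hγ₁ (hfaith ?_)
    rw [map_one]
    refine AlgEquiv.ext fun w => ?_
    obtain ⟨a', c', -, rfl⟩ := IsFractionRing.div_surjective (A := A) w
    rw [map_div₀, AlgEquiv.one_apply]
    exact congrArg₂ (· / ·) (h a') (h c')
  obtain ⟨r₁, r₂, hr₂, hrr⟩ := hmem γ₁ (le_locRing e r₀.2)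
  obtain ⟨N, hN⟩ : ∃ N, r₁ - r₀ * r₂ ∉ m' ^ N := by
    by_contra! h
    have h0 : r₁ - r₀ * r₂ ∈ ⨅ i : ℕ, m' ^ i := Ideal.mem_iInf.mpr h
    rw [Ideal.iInf_pow_eq_bot_of_isDomain m' (Ideal.IsMaximal.ne_top inferInstance), Ideal.mem_bot, sub_eq_zero] at h0
    refine hr₀ (mul_right_cancel₀ (fun e0 : (r₂ : K) = 0 => hr₂ (by
      rw [show r₂ = 0 from Subtype.ext e0, map_zero])) ?_)
    rw [hrr, h0, MulMemClass.coe_mul]
  let Q := A ⧸ m' ^ N
  have hdiff : φN N ⟨_, hmem γ₁ (le_locRing e r₀.2)⟩ ≠ Ideal.Quotient.mkₐ k (m' ^ N) r₀ := by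
    intro h
    refine hN (Ideal.Quotient.eq_zero_iff_mem.mp ?_)
    have := locExt_spec (Ideal.Quotient.mkₐ k (m' ^ N)) (hunit N) ⟨_, hmem γ₁ (le_locRing e r₀.2)⟩ r₁ r₂ hr₂ hrr
    rw [show locExt (Ideal.Quotient.mkₐ k (m' ^ N)) (hunit N) ⟨_, hmem γ₁ (le_locRing e r₀.2)⟩ = _ from h] at this
    rw [map_sub, map_mul, sub_eq_zero]
    exact this.symm
  obtain ⟨L, hL⟩ : ∃ L : Q →ₗ[k] k, L (φN N ⟨_, hmem γ₁ (le_locRing e r₀.2)⟩) ≠ L (Ideal.Quotient.mkₐ k (m' ^ N) r₀) := by
    by_contra! h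
    exact hdiff (sub_eq_zero.mp ((Module.forall_dual_apply_eq_zero_iff k _).mp fun L => by
      rw [map_sub, h L, sub_self]))
  refine ⟨fun γ => L (φN N ⟨_, hmem γ (le_locRing e r₀.2)⟩), g, hg, ⟨γ₁, 1, ?_⟩, fun γ₀ => ?_⟩
  · refine ne_of_ne_of_eq hL ?_
    congr 1
    rw [← locExt_coe (Ideal.Quotient.mkₐ k (m' ^ N)) (hunit N) r₀]
    exact congrArg (φN N) (Subtype.ext (by simp))
  -- regularity
  haveI := isDomain_away hg
  let R' := Localization.Away g
  let redQ : B ⊗[k] A →ₐ[k] R' ⊗[k] Q :=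
    Algebra.TensorProduct.map (IsScalarTower.toAlgHom k B R') (Ideal.Quotient.mkₐ k (m' ^ N))
  have hredQ : ∀ (x : B →ₐ[k] k) (hx : x g ≠ 0) (f : B ⊗[k] A),
      evA (ptAway x hx) (redQ f) = Ideal.Quotient.mkₐ k (m' ^ N) (evA x f) := by
    intro x hx f
    induction f with
    | zero => simp
    | tmul b r =>
      show evA (ptAway x hx) (algebraMap B R' b ⊗ₜ Ideal.Quotient.mkₐ k (m' ^ N) r) = _
      rw [evA_tmul, evA_tmul, ptAway_algebraMap, map_smul]
    | add p q hp hq => simp only [map_add, hp, hq]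
  let ε : Q →ₐ[k] k := Ideal.Quotient.liftₐ (m' ^ N) e fun r hr => by
    rcases Nat.eq_zero_or_pos N with h | h
    · rw [h, pow_zero, Ideal.one_eq_top] at hN; exact absurd Submodule.mem_top hN
    · exact Ideal.pow_le_self h.ne' hr
  have hnil : ∀ q : Q, ε q = 0 → IsNilpotent q := by
    intro q hq
    obtain ⟨r, rfl⟩ := Ideal.Quotient.mk_surjective q
    refine ⟨N, ?_⟩
    rw [← map_pow, Ideal.Quotient.eq_zero_iff_mem]
    exact Ideal.pow_mem_pow hq N
  have hε : ∀ r, ε (Ideal.Quotient.mkₐ k (m' ^ N) r) = e r := fun r => rfl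
  have hεev : ∀ (x : B →ₐ[k] k) (hx : x g ≠ 0) (f : R' ⊗[k] Q), ptAway x hx
      (Algebra.TensorProduct.lift (AlgHom.id k R') ((Algebra.ofId k R').comp ε) (fun _ _ => Commute.all _ _) f) =
      ε (evA (ptAway x hx) f) := by
    intro x hx f
    induction f with
    | zero => simp
    | tmul r q =>
      simp only [Algebra.TensorProduct.lift_tmul, AlgHom.coe_id, id_eq, AlgHom.comp_apply, Algebra.ofId_apply, map_mul,
        evA_tmul, map_smul, smul_eq_mul]
      congr 1
      exact (ptAway x hx).commutes _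
    | add p q hp hq => simp only [map_add, hp, hq]
  let act' : ∀ (x : B →ₐ[k] k), A → locRing e := fun x r => ⟨D.act x r.1, hmem _ (le_locRing e r.2)⟩
  have hreg : ∀ r : A, ∃ f : R' ⊗[k] Q, ∀ (x : B →ₐ[k] k) (hx : x g ≠ 0),
      evA (ptAway x hx) f = φN N (act' x r) := by
    have hSu : IsUnit (redQ S) := by
      refine isUnit_of_reduction ε hnil ?_
      have : Algebra.TensorProduct.lift (AlgHom.id k R') ((Algebra.ofId k R').comp ε) (fun _ _ => Commute.all _ _)
          (redQ S) = algebraMap B R' g := away_ext' (k := k) hg fun x hx => by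
        rw [hεev, hredQ, hε, ptAway_algebraMap, ← hred']
      rw [this]
      exact IsLocalization.Away.algebraMap_isUnit g
    intro r
    have hr : r ∈ Algebra.adjoin k (G : Set A) := hG ▸ Algebra.mem_top
    induction hr using Algebra.adjoin_induction with
    | mem r hr =>
      refine ⟨redQ (F r) * (hSu.unit⁻¹ : (R' ⊗[k] Q)ˣ), fun x hx => ?_⟩
      have hxS : e (evA x S) ≠ 0 := by rw [← hred']; exact hx
      have h1 := locExt_spec (Ideal.Quotient.mkₐ k (m' ^ N)) (hunit N) (act' x r) (evA x (F r)) (evA x S) hxS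
        (by rw [mul_comm]; exact hF x (fun h => hxS (by rw [h, map_zero])) r hr)
      rw [← hredQ x hx, ← hredQ x hx] at h1
      rw [map_mul, ← h1, mul_assoc, ← map_mul, IsUnit.mul_val_inv, map_one, mul_one]

    | algebraMap c =>
      refine ⟨algebraMap k _ c, fun x hx => ?_⟩
      rw [AlgHom.commutes, ← AlgHom.commutes (φN N) c]
      exact congrArg (φN N) (Subtype.ext (by simp [act']))
    | add r r' _ _ h h' =>
      obtain ⟨f, hf⟩ := h
      obtain ⟨f', hf'⟩ := h'
      refine ⟨f + f', fun x hx => ?_⟩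
      rw [map_add, hf, hf', ← map_add]
      exact congrArg (φN N) (Subtype.ext (by simp [act']))
    | mul r r' _ _ h h' =>
      obtain ⟨f, hf⟩ := h
      obtain ⟨f', hf'⟩ := h'
      refine ⟨f * f', fun x hx => ?_⟩
      rw [map_mul, hf, hf', ← map_mul]
      exact congrArg (φN N) (Subtype.ext (by simp [act']))
  obtain ⟨a', u'', hu'', hau'⟩ := hmem γ₀ (le_locRing e r₀.2)
  obtain ⟨fa, hfa⟩ := hreg a'
  obtain ⟨fu, hfu⟩ := hreg u''
  have hfuu : IsUnit fu := by
    refine isUnit_of_reduction ε hnil ?_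
    have : Algebra.TensorProduct.lift (AlgHom.id k R') ((Algebra.ofId k R').comp ε) (fun _ _ => Commute.all _ _)
        fu = algebraMap k R' (e u'') := away_ext' (k := k) hg fun x hx => by
      rw [hεev, hfu, AlgHom.commutes]
      obtain ⟨h, he⟩ := hall (D.pt x) u''.1 (le_locRing e u''.2)
      obtain ⟨c₁, c₂, hc₂, hcc⟩ := h
      have h1 := congrArg ε (locExt_spec (Ideal.Quotient.mkₐ k (m' ^ N)) (hunit N) (act' x u'') c₁ c₂ hc₂ hcc)
      have h2 := locEval_spec (χ := e) (act' x u'') c₁ c₂ hc₂ hcc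
      rw [map_mul, hε, hε, ← h2] at h1
      rw [locEval_coe] at he
      exact (mul_right_cancel₀ hc₂ h1).trans he
    rw [this]
    exact (isUnit_iff_ne_zero.mpr hu'').map _
  let q : R' := Algebra.TensorProduct.rid k k R' (Algebra.TensorProduct.map (AlgHom.id k R') (AlgHom.id k k)
    (LinearMap.lTensor R' L (fa * (hfuu.unit⁻¹ : (R' ⊗[k] Q)ˣ))))
  obtain ⟨⟨c, ⟨_, M, rfl⟩⟩, hq⟩ := IsLocalization.surj (Submonoid.powers g) q
  refine ⟨c, M, fun x hx => ?_⟩
  have hev' : ∀ f : R' ⊗[k] Q, ptAway x hx (Algebra.TensorProduct.rid k k R' (Algebra.TensorProduct.map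
      (AlgHom.id k R') (AlgHom.id k k) (LinearMap.lTensor R' L f))) = L (evA (ptAway x hx) f) := by
    intro f
    induction f with
    | zero => simp
    | tmul r w =>
      simp only [LinearMap.lTensor_tmul, Algebra.TensorProduct.map_tmul, AlgHom.coe_id, id_eq,
        Algebra.TensorProduct.rid_tmul, evA_tmul, map_smul, smul_eq_mul]
      rw [mul_comm]
    | add p q hp hq => simp only [map_add, hp, hq]
  have h5 := congrArg (ptAway x hx) hq
  rw [map_mul, ptAway_algebraMap, ptAway_algebraMap, map_pow] at h5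
  rw [← h5]
  congr 1
  simp only [q, hev', map_mul, hfa]
  congr 1
  have key : φN N ⟨_, hmem (γ₀ * D.pt x) (le_locRing e r₀.2)⟩ * φN N (act' x u'') = φN N (act' x a') := by
    rw [← map_mul]
    refine congrArg (φN N) (Subtype.ext ?_)
    simp only [act', MulMemClass.coe_mul, RatAct.act, ← hau', map_mul, AlgEquiv.mul_apply]
    rw [← AlgEquiv.mul_apply, ← AlgEquiv.mul_apply, ← map_mul D.σ, ← map_mul D.σ, mul_comm γ₀]
  rw [← key, ← hfu x hx, mul_assoc, ← map_mul (evA (ptAway x hx)), IsUnit.mul_val_inv, map_one, mul_one]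
  exact congrArg (φN N) (Subtype.ext (DFunLike.congr_fun (map_mul D.σ _ _).symm _))

end Groth.Agent.Chevalley.Val
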