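import Groth.Agent.Chevalley.Val.Closure
import Groth.Agent.Chevalley.Val.Regular

/-!
A commutative group without small subgroups which is not proper has a non-constant function.
-/

universe u

set_option backward.isDefEq.respectTransparency false

noncomputable section

open CategoryTheory CategoryTheory.Limits AlgebraicGeometry MonoidalCategory CartesianMonoidalCategory MonObj TensorProduct

namespace Groth.Agent.Chevalley.Val

variable {k : Type u} [Field k] [IsAlgClosed k] {C : Over (Spec (CommRingCat.of k))} [GrpObj C] [IsCommMonObj C]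
  [LocallyOfFiniteType C.hom] [QuasiCompact C.hom] [IsSeparated C.hom] [IsIntegral C.left]

section Chart

variable {U : C.left.Opens} [Nonempty U] (hU : IsAffineOpen U)

omit [IsAlgClosed k] [IsCommMonObj C] [LocallyOfFiniteType C.hom] [QuasiCompact C.hom] [IsSeparated C.hom]
  [IsIntegral C.left] [Nonempty U] [GrpObj C] in
theorem toUnit_cpt {R : Type u} [CommRing R] [Algebra k R] : letI := secAlg U; ∀ x : Γ(C.left, U) →ₐ[k] k,
    toUnit (aff (k := k) R) ≫ basePt ≫ affMap x ≫ chartPt hU = affMap ((Algebra.ofId k R).comp x) ≫ chartPt hU := by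
  letI := secAlg U
  intro x
  rw [← affMap_comp, Category.assoc, ← Category.assoc (toUnit _)]
  congr 1

/-- A point of the chart. -/
def cpt : letI := secAlg U; (Γ(C.left, U) →ₐ[k] k) → (𝟙_ (Over (Spec (CommRingCat.of k))) ⟶ C) :=
  letI := secAlg U
  fun x => basePt ≫ affMap x ≫ chartPt hU

omit [IsAlgClosed k] [IsCommMonObj C] [LocallyOfFiniteType C.hom] [QuasiCompact C.hom] [IsSeparated C.hom]
  [IsIntegral C.left] [Nonempty U] [GrpObj C] in
theorem cpt_left : letI := secAlg U; ∀ x : Γ(C.left, U) →ₐ[k] k,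
    (cpt hU x).left = Spec.map (CommRingCat.ofHom x.toRingHom) ≫ hU.fromSpec := fun x => Category.id_comp _

omit [IsAlgClosed k] [IsCommMonObj C] [LocallyOfFiniteType C.hom] [QuasiCompact C.hom] [IsSeparated C.hom]
  [IsIntegral C.left] [Nonempty U] [GrpObj C] in
theorem cpt_injective : letI := secAlg U; Function.Injective (cpt hU) := by
  letI := secAlg U
  intro x y h
  have h' : (cpt hU x).left = (cpt hU y).left := by rw [h]
  rw [cpt_left hU x, cpt_left hU y, cancel_mono] at h'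
  exact AlgHom.coe_ringHom_injective (congrArg CommRingCat.Hom.hom (Spec.map_injective h'))

omit [IsAlgClosed k] [IsCommMonObj C] [LocallyOfFiniteType C.hom] [QuasiCompact C.hom] [IsSeparated C.hom]
  [IsIntegral C.left] [Nonempty U] [GrpObj C] in
theorem exists_cpt (a : 𝟙_ (Over (Spec (CommRingCat.of k))) ⟶ C) (h : pp a ∈ U) :
    letI := secAlg U; ∃ x, cpt hU x = a := by
  letI := secAlg U
  have hr : Set.range a.left ⊆ Set.range hU.fromSpec := by
    rw [hU.range_fromSpec]
    rintro _ ⟨z, rfl⟩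
    exact le_preimage_of_mem a h trivial
  obtain ⟨ψ, hψ⟩ := Spec.map_surjective (IsOpenImmersion.lift hU.fromSpec a.left hr)
  have hfac : Spec.map ψ ≫ hU.fromSpec = a.left := by rw [hψ, IsOpenImmersion.lift_fac]
  have hk : CommRingCat.ofHom (algebraMap k Γ(C.left, U)) ≫ ψ = 𝟙 _ := Spec.map_injective (by
    rw [Spec.map_comp, Spec.map_id,
      show Spec.map (CommRingCat.ofHom (algebraMap k Γ(C.left, U))) = hU.fromSpec ≫ C.hom from (Over.w (chartPt hU)).symm,
      ← Category.assoc, hfac]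
    exact Over.w a)
  exact ⟨AlgHom.mk ψ.hom fun c => congrArg (fun r => r.hom c) hk,
    Over.OverMorphism.ext ((cpt_left hU _).trans hfac)⟩

omit [IsAlgClosed k] [IsCommMonObj C] [LocallyOfFiniteType C.hom] [QuasiCompact C.hom] [IsSeparated C.hom]
  [IsIntegral C.left] [Nonempty U] [GrpObj C] in
theorem cpt_mem : letI := secAlg U; ∀ x : Γ(C.left, U) →ₐ[k] k, pp (cpt hU x) ∈ U := by
  letI := secAlg U
  intro x
  show (cpt hU x).left _ ∈ U
  rw [cpt_left]
  exact hU.range_fromSpec.subset ⟨_, rfl⟩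

omit [IsAlgClosed k] [IsCommMonObj C] [LocallyOfFiniteType C.hom] [QuasiCompact C.hom] [IsSeparated C.hom]
  [IsIntegral C.left] [Nonempty U] [GrpObj C] in
theorem val_cpt : letI := secAlg U; ∀ (x : Γ(C.left, U) →ₐ[k] k) (g : Γ(C.left, U)),
    val (cpt hU x) (cpt_mem hU x) g = x g := by
  letI := secAlg U
  intro x g
  have h0 : hU.fromSpec.appLE U ⊤ (by rw [hU.fromSpec_preimage_self]) = (Scheme.ΓSpecIso Γ(C.left, U)).inv := by
    rw [Scheme.Hom.appLE, hU.fromSpec_app_self, Category.assoc, ← Functor.map_comp]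
    exact (congrArg (_ ≫ ·) ((congrArg _ (Subsingleton.elim _ (𝟙 _))).trans
      ((Spec Γ(C.left, U)).presheaf.map_id _))).trans (Category.comp_id _)
  have h1 : (cpt hU x).left.appLE U ⊤ (le_preimage_of_mem _ (cpt_mem hU x)) ≫
      (Scheme.ΓSpecIso (CommRingCat.of k)).hom = CommRingCat.ofHom x.toRingHom := by
    simp only [cpt_left]
    rw [← Scheme.Hom.appLE_comp_appLE (Spec.map (CommRingCat.ofHom x.toRingHom)) hU.fromSpec U ⊤ ⊤
      (by rw [hU.fromSpec_preimage_self]) (by simp), h0, Category.assoc]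
    rw [show (Spec.map (CommRingCat.ofHom x.toRingHom)).appLE ⊤ ⊤ (by simp) =
      (Spec.map (CommRingCat.ofHom x.toRingHom)).appTop from Scheme.Hom.appLE_eq_app _, Scheme.ΓSpecIso_naturality]
    exact Iso.inv_hom_id_assoc _ _
  exact congrArg (fun r => r.hom g) h1

omit [IsAlgClosed k] [IsCommMonObj C] [LocallyOfFiniteType C.hom] [QuasiCompact C.hom] [IsSeparated C.hom]
  [IsIntegral C.left] [Nonempty U] [GrpObj C] in
theorem cpt_mem_basicOpen : letI := secAlg U; ∀ (x : Γ(C.left, U) →ₐ[k] k) (g : Γ(C.left, U)),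
    pp (cpt hU x) ∈ C.left.basicOpen g ↔ x g ≠ 0 := by
  letI := secAlg U
  intro x g
  show (cpt hU x).left _ ∈ _ ↔ _
  rw [cpt_left]
  show Spec.map (CommRingCat.ofHom x.toRingHom) _ ∈ hU.fromSpec ⁻¹ᵁ C.left.basicOpen g ↔ _
  rw [hU.fromSpec_preimage_basicOpen]
  show x g ∉ IsLocalRing.maximalIdeal k ↔ _
  rw [IsLocalRing.maximalIdeal_eq_bot, Ideal.mem_bot]

omit [IsCommMonObj C] [LocallyOfFiniteType C.hom] [QuasiCompact C.hom] [IsSeparated C.hom] [GrpObj C]
  [IsAlgClosed k] in
theorem gen_of_open {O : C.left.Opens} (hO : (O : Set C.left).Nonempty) :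
    letI := secAlg U; Gen fun x : Γ(C.left, U) →ₐ[k] k => pp (cpt hU x) ∈ O := by
  letI := secAlg U
  have hne : ((O ⊓ U : C.left.Opens) : Set C.left).Nonempty := by
    obtain ⟨z, hz⟩ := Set.nonempty_coe_sort.mp ‹Nonempty U›
    exact nonempty_preirreducible_inter O.2 U.2 hO ⟨z, hz⟩
  obtain ⟨z, hzO, hzU⟩ := hne
  obtain ⟨g, hg, hzg⟩ := hU.exists_basicOpen_le ⟨z, hzO⟩ hzU
  refine ⟨g, fun h0 => ?_, fun x hx => hg ((cpt_mem_basicOpen hU x g).mpr hx)⟩
  rw [h0, Scheme.basicOpen_zero] at hzg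
  exact hzg

omit [GrpObj C] [IsCommMonObj C] [QuasiCompact C.hom] [IsSeparated C.hom] [IsAlgClosed k] in
theorem finiteType_sections {hU' : IsAffineOpen U} : letI := secAlg U; Algebra.FiniteType k Γ(C.left, U) := by
  letI := secAlg U
  have h := LocallyOfFiniteType.finiteType_appLE C.hom (isAffineOpen_top _) hU' (V := U) le_top
  show RingHom.FiniteType _
  exact h.comp (RingHom.FiniteType.of_surjective _ (Scheme.ΓSpecIso (CommRingCat.of k)).commRingCatIsoToRingEquiv.symm.surjective)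

/-- The rational action of the points on the function field, in a chart. -/
theorem exists_ratAct : letI := secAlg U
    ∃ D : RatAct k Γ(C.left, U) C.left.functionField (𝟙_ (Over (Spec (CommRingCat.of k))) ⟶ C),
      D.pt = cpt hU ∧ D.σ = actEquiv := by
  letI := secAlg U
  haveI : IsDomain Γ(C.left, U) := inferInstance
  haveI := finiteType_sections (hU' := hU)
  obtain ⟨hst, hgerm⟩ := affMap_germ (C := C) hU
  haveI := hst
  haveI := functionField_isFractionRing_of_isAffineOpen C.left U hU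
  let inc := IsScalarTower.toAlgHom k Γ(C.left, U) C.left.functionField
  have transl : ∀ (a : 𝟙_ (Over (Spec (CommRingCat.of k))) ⟶ C) {Q : (Γ(C.left, U) →ₐ[k] k) → Prop},
      Gen Q → Gen fun x => ∃ y, cpt hU y = a * cpt hU x ∧ Q y := by
    intro a Q ⟨g, hg, hgQ⟩
    obtain ⟨x₁, hx₁⟩ := CurveConnLib.exists_point_ne_zero (k := k) _ hg
    have hmem := (cpt_mem_basicOpen hU x₁ g).mpr hx₁
    refine (gen_of_open hU (O := (tr a).left ⁻¹ᵁ C.left.basicOpen g) ⟨pp (a⁻¹ * cpt hU x₁), ?_⟩).mono fun x hx => ?_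
    · show (tr a).left _ ∈ C.left.basicOpen g
      rw [pp, ← Scheme.Hom.comp_apply, ← Over.comp_left, pt_tr, mul_inv_cancel_left]
      exact hmem
    · have hx' : pp (a * cpt hU x) ∈ C.left.basicOpen g := by rw [← pt_tr]; exact hx
      obtain ⟨y, hy⟩ := exists_cpt hU _ (C.left.basicOpen_le g hx')
      exact ⟨y, hy, hgQ y ((cpt_mem_basicOpen hU y g).mp (hy ▸ hx'))⟩
  have inv_ : ∀ {Q : (Γ(C.left, U) →ₐ[k] k) → Prop},
      Gen Q → Gen fun x => ∃ y, cpt hU y = (cpt hU x)⁻¹ ∧ Q y := by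
    intro Q ⟨g, hg, hgQ⟩
    obtain ⟨x₁, hx₁⟩ := CurveConnLib.exists_point_ne_zero (k := k) _ hg
    have hmem := (cpt_mem_basicOpen hU x₁ g).mpr hx₁
    refine (gen_of_open hU (O := (ι[C]).left ⁻¹ᵁ C.left.basicOpen g) ⟨pp (cpt hU x₁)⁻¹, ?_⟩).mono fun x hx => ?_
    · show (ι[C]).left _ ∈ C.left.basicOpen g
      rw [pp, ← Scheme.Hom.comp_apply, ← Over.comp_left, ← Hom.inv_def, inv_inv]
      exact hmem
    · have hx' : pp (cpt hU x)⁻¹ ∈ C.left.basicOpen g := by rw [Hom.inv_def]; exact hx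
      obtain ⟨y, hy⟩ := exists_cpt hU _ (C.left.basicOpen_le g hx')
      exact ⟨y, hy, hgQ y ((cpt_mem_basicOpen hU y g).mp (hy ▸ hx'))⟩
  let B := Γ(C.left, U)
  let mm : aff (k := k) (B ⊗[k] B) ⟶ C :=
    (affMap Algebra.TensorProduct.includeLeft ≫ chartPt hU) * (affMap Algebra.TensorProduct.includeRight ≫ chartPt hU)
  have hmm : ∀ {R : Type u} [CommRing R] [Algebra k R] (Θ : B ⊗[k] B →ₐ[k] R),
      affMap Θ ≫ mm = (affMap (Θ.comp Algebra.TensorProduct.includeLeft) ≫ chartPt hU) *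
        (affMap (Θ.comp Algebra.TensorProduct.includeRight) ≫ chartPt hU) := by
    intro R _ _ Θ
    simp only [mm, MonObj.comp_mul, ← Category.assoc, affMap_comp]
  -- the product is defined on a basic open set
  obtain ⟨y₂, hy₂⟩ : ∃ y : B →ₐ[k] k, True := ⟨(CurveConnLib.exists_point_ne_zero (k := k) B one_ne_zero).choose, trivial⟩
  obtain ⟨y₁, y₃, hy₃, -⟩ := (transl (cpt hU y₂) (gen_of_forall fun _ => trivial)).exists
  let Θ₀ : B ⊗[k] B →ₐ[k] k := Algebra.TensorProduct.lift y₂ y₁ fun _ _ => Commute.all _ _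
  have hΘ₀ : basePt ≫ affMap Θ₀ ≫ mm = cpt hU y₃ := by
    rw [hmm, hy₃, MonObj.comp_mul]
    rw [show Θ₀.comp Algebra.TensorProduct.includeLeft = y₂ from AlgHom.ext fun t => by simp [Θ₀],
      show Θ₀.comp Algebra.TensorProduct.includeRight = y₁ from AlgHom.ext fun t => by simp [Θ₀]]
    rfl
  let W : Set (PrimeSpectrum (B ⊗[k] B)) := mm.left ⁻¹' (U : Set C.left)
  have hWo : IsOpen W := U.2.preimage mm.left.continuous
  let P₀ : PrimeSpectrum (B ⊗[k] B) := Spec.map (CommRingCat.ofHom Θ₀.toRingHom) (IsLocalRing.closedPoint k)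
  have hP₀ : P₀ ∈ W := by
    show mm.left P₀ ∈ U
    have h := cpt_mem hU y₃
    rw [← hΘ₀] at h
    exact h
  obtain ⟨_, ⟨s, rfl⟩, hs₀, hsW⟩ := PrimeSpectrum.isTopologicalBasis_basic_opens.exists_subset_of_mem_open hP₀ hWo
  have hs : s ≠ 0 := fun h => hs₀ (h ▸ Ideal.zero_mem _)
  let Bs := Localization.Away s
  let q : aff (k := k) Bs ⟶ aff (B ⊗[k] B) := affMap (IsScalarTower.toAlgHom k (B ⊗[k] B) Bs)
  have hrange : Set.range (q ≫ mm).left ⊆ Set.range hU.fromSpec := by
    rw [hU.range_fromSpec]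
    rintro _ ⟨z, rfl⟩
    refine hsW ?_
    show _ ∈ (PrimeSpectrum.basicOpen s : Set (PrimeSpectrum (B ⊗[k] B)))
    rw [← PrimeSpectrum.localization_away_comap_range Bs s]
    exact ⟨z, rfl⟩
  let l : aff (k := k) Bs ⟶ aff B := Over.homMk (IsOpenImmersion.lift hU.fromSpec (q ≫ mm).left hrange) (by
    show _ ≫ Spec.map (CommRingCat.ofHom (algebraMap k B)) = _
    rw [show Spec.map (CommRingCat.ofHom (algebraMap k B)) = hU.fromSpec ≫ C.hom from (Over.w (chartPt hU)).symm,
      ← Category.assoc, IsOpenImmersion.lift_fac]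
    exact Over.w (q ≫ mm))
  obtain ⟨mh, hmh⟩ := exists_affMap_eq l
  have hmhq : affMap mh ≫ chartPt hU = q ≫ mm := by
    rw [hmh]; exact Over.OverMorphism.ext (IsOpenImmersion.lift_fac _ _ _)
  haveI : Mono (chartPt hU) := by
    haveI : Mono (chartPt hU).left := inferInstanceAs (Mono hU.fromSpec)
    exact Over.mono_of_mono_left _
  let sK : B ⊗[k] C.left.functionField := Algebra.TensorProduct.map (AlgHom.id k B) inc s
  have hsK : sK ≠ 0 := by
    intro h
    refine hs (?_ : s = 0)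
    have hinj : Function.Injective (Algebra.TensorProduct.map (AlgHom.id k B) inc) :=
      Module.Flat.lTensor_preserves_injective_linearMap (M := B) inc.toLinearMap
        (IsFractionRing.injective B C.left.functionField)
    exact hinj (h.trans (map_zero _).symm)
  -- rationality on the chart
  have ratB : ∀ b : B, ∃ (n : ℕ) (f : B ⊗[k] B), ∀ x : B →ₐ[k] k, evA x sK ≠ 0 →
      evA x sK ^ n * actHom (cpt hU x) (inc b) = evA x (Algebra.TensorProduct.map (AlgHom.id k B) inc f) := by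
    intro b
    obtain ⟨n, f, hf⟩ := IsLocalization.Away.surj s (mh b)
    refine ⟨n, f, fun x hx => ?_⟩
    let Θ : B ⊗[k] B →ₐ[k] C.left.functionField :=
      Algebra.TensorProduct.lift ((Algebra.ofId k _).comp x) inc fun _ _ => Commute.all _ _
    have hΘ : ∀ t, Θ t = evA x (Algebra.TensorProduct.map (AlgHom.id k B) inc t) := by
      intro t
      induction t with
      | zero => simp
      | tmul a c =>
        simp [Θ, Algebra.smul_def, Algebra.ofId_apply]
        exact Or.inl rfl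
      | add p q hp hq => simp only [map_add, hp, hq]
    have hu : IsUnit (Θ s) := isUnit_iff_ne_zero.mpr (by rw [hΘ]; exact hx)
    let Θ' : Bs →ₐ[k] C.left.functionField :=
      { (IsLocalization.Away.lift s (show IsUnit ((Θ : B ⊗[k] B →+* C.left.functionField) s) from hu) :
          Bs →+* C.left.functionField) with
        commutes' := fun r => by
          show IsLocalization.Away.lift s _ (algebraMap k Bs r) = _
          rw [IsScalarTower.algebraMap_apply k (B ⊗[k] B) Bs, IsLocalization.Away.lift_eq]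
          exact Θ.commutes r }
    have hΘ' : Θ'.comp (IsScalarTower.toAlgHom k (B ⊗[k] B) Bs) = Θ :=
      AlgHom.ext fun t => IsLocalization.Away.lift_eq (x := s) (show IsUnit ((Θ : B ⊗[k] B →+* C.left.functionField) s) from hu) t
    have key : Θ'.comp mh = (actHom (cpt hU x)).comp inc := by
      refine affMap_inj ((cancel_mono (chartPt hU)).mp ?_)
      rw [← affMap_comp, Category.assoc, hmhq, ← Category.assoc, affMap_comp, hΘ', hmm]
      conv_rhs => rw [← affMap_comp, Category.assoc, hgerm, actHom_spec, comp_tr]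
      rw [show Θ.comp Algebra.TensorProduct.includeRight = inc from AlgHom.ext fun t => by simp [Θ],
        show Θ.comp Algebra.TensorProduct.includeLeft = (Algebra.ofId k C.left.functionField).comp x from
          AlgHom.ext fun t => by simp [Θ]]
      rw [← hgerm, ← toUnit_cpt hU x]
      rfl
    have h1 := congrArg Θ' hf
    have e1 : ∀ t, Θ' (algebraMap (B ⊗[k] B) Bs t) = evA x (Algebra.TensorProduct.map (AlgHom.id k B) inc t) := fun t => by
      rw [← hΘ]; exact AlgHom.congr_fun hΘ' t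
    rw [map_mul, map_pow, e1, e1, mul_comm] at h1
    rw [← h1]
    congr 1
    exact (AlgHom.congr_fun key b).symm
  refine ⟨⟨actEquiv, cpt hU, fun a => ?_, transl, inv_⟩, rfl, rfl⟩
  rcases eq_or_ne a 0 with rfl | ha
  · exact ⟨0, 1, one_ne_zero, fun x _ => by simp⟩
  obtain ⟨b₁, b₂, hb₂, rfl⟩ := IsFractionRing.div_surjective (A := B) a
  obtain ⟨n₁, f₁, h₁⟩ := ratB b₁
  obtain ⟨n₂, f₂, h₂⟩ := ratB b₂
  obtain ⟨x, hx⟩ := (gen_evA_ne_zero hsK).exists
  have hb₂' : inc b₂ ≠ 0 := IsFractionRing.to_map_ne_zero_of_mem_nonZeroDivisors hb₂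
  have hne : ∀ x : B →ₐ[k] k, evA x sK ≠ 0 → evA x (Algebra.TensorProduct.map (AlgHom.id k B) inc f₂) ≠ 0 := fun x hx => by
    rw [← h₂ x hx]
    exact mul_ne_zero (pow_ne_zero _ hx) ((map_ne_zero_iff _ (actHom (cpt hU x)).injective).mpr hb₂')
  refine ⟨Algebra.TensorProduct.map (AlgHom.id k B) inc f₁ * sK ^ (n₂ + 1), sK ^ (n₁ + 1) *
    Algebra.TensorProduct.map (AlgHom.id k B) inc f₂, ?_, fun x hx => ?_⟩
  · intro h0
    have h1 := congrArg (evA x) h0
    rw [map_mul, map_pow, map_zero, mul_eq_zero] at h1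
    exact h1.elim (pow_ne_zero _ ‹evA x sK ≠ 0›) (hne x ‹_›)
  · rw [map_mul, map_pow, mul_ne_zero_iff] at hx
    have hx' : evA x sK ≠ 0 := fun h => hx.1 (by rw [h, zero_pow (Nat.succ_ne_zero _)])
    have e₂ := h₂ x hx'
    have h2' : actHom (cpt hU x) (inc b₂) ≠ 0 := (map_ne_zero_iff _ (actHom (cpt hU x)).injective).mpr hb₂'
    rw [map_mul, map_mul, map_pow, map_pow, ← h₁ x hx', ← e₂]
    show _ * (actHom (cpt hU x)) (inc b₁ / inc b₂) = _
    rw [map_div₀, pow_succ, pow_succ]
    field_simp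
    ring

end Chart

end Groth.Agent.Chevalley.Val
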