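import Groth.Agent.Chevalley.Val.Pts
import Mathlib.RingTheory.Valuation.ValuationRing
import Mathlib.RingTheory.LocalRing.ResidueField.Basic
import Mathlib.RingTheory.Localization.FractionRing
import Mathlib.Algebra.MvPolynomial.CommRing

/-!
The generic translate of a valuation ring under a rational family of automorphisms of a field.
-/

universe u

noncomputable section

open TensorProduct IsLocalRing

namespace Groth.Agent.Chevalley.Val

variable {k B : Type u} [Field k] [IsAlgClosed k] [CommRing B] [IsDomain B] [Algebra k B]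
  [Algebra.FiniteType k B]

section Agr

variable {R : Type u} [CommRing R] [IsDomain R] [Algebra k R]

instance isDomain_family : IsDomain (B ⊗[k] R) := GrpSchLib.isDomain_tensor_of_isAlgClosed

/-- A rational family which agrees with a function on points at general points. -/
def Agr (q : FractionRing (B ⊗[k] R)) (F : (B →ₐ[k] k) → R) : Prop :=
  ∃ f s : B ⊗[k] R, s ≠ 0 ∧ q * algebraMap (B ⊗[k] R) (FractionRing (B ⊗[k] R)) s =
    algebraMap (B ⊗[k] R) (FractionRing (B ⊗[k] R)) f ∧ Gen fun x => evA x s * F x = evA x f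

theorem agr_of_family (f : B ⊗[k] R) : Agr (algebraMap _ (FractionRing (B ⊗[k] R)) f) fun x => evA x f :=
  ⟨f, 1, one_ne_zero, by rw [map_one, mul_one], gen_of_forall fun x => by rw [map_one, one_mul]⟩

theorem agr_of_rat {F : (B →ₐ[k] k) → R} {f s : B ⊗[k] R} (hs : s ≠ 0)
    (h : Gen fun x => evA x s * F x = evA x f) :
    ∃ q : FractionRing (B ⊗[k] R), Agr q F := by
  refine ⟨algebraMap _ _ f / algebraMap _ _ s, f, s, hs, ?_, h⟩
  exact div_mul_cancel₀ _ (IsFractionRing.to_map_ne_zero_of_mem_nonZeroDivisors (mem_nonZeroDivisors_of_ne_zero hs))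

theorem Agr.congr {q : FractionRing (B ⊗[k] R)} {F F' : (B →ₐ[k] k) → R} (h : Agr q F)
    (he : Gen fun x => F x = F' x) : Agr q F' := by
  obtain ⟨f, s, hs, hq, hg⟩ := h
  exact ⟨f, s, hs, hq, (hg.and he).mono fun x hx => by rw [← hx.2]; exact hx.1⟩

theorem Agr.add {q q' : FractionRing (B ⊗[k] R)} {F F' : (B →ₐ[k] k) → R} (h : Agr q F) (h' : Agr q' F') :
    Agr (q + q') fun x => F x + F' x := by
  obtain ⟨f, s, hs, hq, hg⟩ := h
  obtain ⟨f', s', hs', hq', hg'⟩ := h'
  refine ⟨f * s' + f' * s, s * s', mul_ne_zero hs hs', ?_, (hg.and hg').mono fun x hx => ?_⟩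
  · simp only [map_mul, map_add, ← hq, ← hq']; ring
  · simp only [map_mul, map_add, ← hx.1, ← hx.2]; ring

theorem Agr.mul {q q' : FractionRing (B ⊗[k] R)} {F F' : (B →ₐ[k] k) → R} (h : Agr q F) (h' : Agr q' F') :
    Agr (q * q') fun x => F x * F' x := by
  obtain ⟨f, s, hs, hq, hg⟩ := h
  obtain ⟨f', s', hs', hq', hg'⟩ := h'
  refine ⟨f * f', s * s', mul_ne_zero hs hs', ?_, (hg.and hg').mono fun x hx => ?_⟩
  · simp only [map_mul, ← hq, ← hq']; ring
  · simp only [map_mul, ← hx.1, ← hx.2]; ring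

theorem agr_one : Agr (1 : FractionRing (B ⊗[k] R)) fun _ => (1 : R) := by
  simpa using agr_of_family (B := B) (R := R) (k := k) 1

theorem agr_zero : Agr (0 : FractionRing (B ⊗[k] R)) fun _ => (0 : R) := by
  simpa using agr_of_family (B := B) (R := R) (k := k) 0

theorem Agr.eq_zero_iff {q : FractionRing (B ⊗[k] R)} {F : (B →ₐ[k] k) → R} (h : Agr q F) :
    q = 0 ↔ Gen fun x => F x = 0 := by
  obtain ⟨f, s, hs, hq, hg⟩ := h
  have hs' : algebraMap (B ⊗[k] R) (FractionRing (B ⊗[k] R)) s ≠ 0 :=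
    IsFractionRing.to_map_ne_zero_of_mem_nonZeroDivisors (mem_nonZeroDivisors_of_ne_zero hs)
  constructor
  · intro h0
    have hf : f = 0 := IsFractionRing.injective (B ⊗[k] R) (FractionRing (B ⊗[k] R)) (by
      rw [← hq, h0, zero_mul, map_zero])
    refine ((gen_evA_ne_zero hs).and hg).mono fun x hx => ?_
    rw [hf, map_zero, mul_eq_zero] at hx
    exact hx.2.resolve_left hx.1
  · intro h0
    have hf : f = 0 := eq_of_evA ((h0.and hg).mono fun x hx => by rw [map_zero, ← hx.2, hx.1, mul_zero])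
    rw [hf, map_zero, mul_eq_zero] at hq
    exact hq.resolve_right hs'

theorem Agr.unique {q q' : FractionRing (B ⊗[k] R)} {F F' : (B →ₐ[k] k) → R} (h : Agr q F) (h' : Agr q' F')
    (he : Gen fun x => F x = F' x) : q = q' := by
  have hneg : Agr (-1 : FractionRing (B ⊗[k] R)) fun _ => (-1 : R) := by
    have := agr_of_family (B := B) (R := R) (k := k) (-1)
    simpa using this
  rw [← sub_eq_zero, sub_eq_add_neg, neg_eq_neg_one_mul]
  exact (h.add (hneg.mul h')).eq_zero_iff.mpr (he.mono fun x hx => by rw [hx, neg_one_mul, add_neg_cancel])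

theorem agr_eval₂ {S : Type u} [CommRing S] {ι : Type*} (φ : S →+* FractionRing (B ⊗[k] R))
    (ψ : (B →ₐ[k] k) → S → R) (z : ι → FractionRing (B ⊗[k] R)) (zf : ι → (B →ₐ[k] k) → R)
    (hφ : ∀ a, Agr (φ a) fun x => ψ x a) (hz : ∀ i, Agr (z i) (zf i)) (P : MvPolynomial ι S) :
    Agr (MvPolynomial.eval₂ φ z P) fun x => ∑ d ∈ P.support, ψ x (P.coeff d) * d.prod fun i e => zf i x ^ e := by
  classical
  have hone : Agr (1 : FractionRing (B ⊗[k] R)) fun _ => (1 : R) := by
    simpa using agr_of_family (B := B) (R := R) (k := k) 1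
  have hzero : Agr (0 : FractionRing (B ⊗[k] R)) fun _ => (0 : R) := by
    simpa using agr_of_family (B := B) (R := R) (k := k) 0
  have hsum : ∀ {J : Type _} (s : Finset J) (q : J → FractionRing (B ⊗[k] R)) (F : J → (B →ₐ[k] k) → R),
      (∀ j ∈ s, Agr (q j) (F j)) → Agr (∑ j ∈ s, q j) fun x => ∑ j ∈ s, F j x := by
    intro J s q F h
    induction s using Finset.induction with
    | empty => simpa using hzero
    | insert a s ha ih =>
      simp only [Finset.sum_insert ha]
      exact (h a (Finset.mem_insert_self a s)).add (ih fun j hj => h j (Finset.mem_insert_of_mem hj))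
  have hprod : ∀ {J : Type _} (s : Finset J) (q : J → FractionRing (B ⊗[k] R)) (F : J → (B →ₐ[k] k) → R),
      (∀ j ∈ s, Agr (q j) (F j)) → Agr (∏ j ∈ s, q j) fun x => ∏ j ∈ s, F j x := by
    intro J s q F h
    induction s using Finset.induction with
    | empty => simpa using hone
    | insert a s ha ih =>
      simp only [Finset.prod_insert ha]
      exact (h a (Finset.mem_insert_self a s)).mul (ih fun j hj => h j (Finset.mem_insert_of_mem hj))
  rw [MvPolynomial.eval₂_eq]
  refine hsum _ _ _ fun d _ => (hφ _).mul (hprod _ _ _ fun i _ => ?_)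
  induction d i with
  | zero => simpa using hone
  | succ n ih => simpa [pow_succ] using ih.mul (hz i)

end Agr

/-- A rational family of field automorphisms parametrised by the points of an affine chart of a group. -/
structure RatAct (k B K Γ : Type u) [Field k] [CommRing B] [Algebra k B] [Field K] [Algebra k K] [CommGroup Γ] where
  /-- The automorphisms. -/
  σ : Γ →* (K ≃ₐ[k] K)
  /-- The chart. -/
  pt : (B →ₐ[k] k) → Γ
  rat : ∀ a : K, ∃ f s : B ⊗[k] K, s ≠ 0 ∧ ∀ x : B →ₐ[k] k, evA x s ≠ 0 → evA x s * σ (pt x) a = evA x f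
  transl : ∀ (γ : Γ) {Q : (B →ₐ[k] k) → Prop}, Gen Q → Gen fun x => ∃ y, pt y = γ * pt x ∧ Q y
  inv : ∀ {Q : (B →ₐ[k] k) → Prop}, Gen Q → Gen fun x => ∃ y, pt y = (pt x)⁻¹ ∧ Q y

variable {K Γ : Type u} [Field K] [Algebra k K] [CommGroup Γ] (D : RatAct k B K Γ)

/-- The translate of an element by a point of the chart. -/
abbrev RatAct.act (x : B →ₐ[k] k) (a : K) : K := D.σ (D.pt x) a

theorem RatAct.exists_agr (a : K) : ∃ q : FractionRing (B ⊗[k] K), Agr q fun x => D.act x a := by
  obtain ⟨f, s, hs, h⟩ := D.rat a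
  exact agr_of_rat hs ((gen_evA_ne_zero hs).mono fun x hx => h x hx)

variable (O : Subalgebra k K)

theorem exists_max [ValuationRing O] [IsFractionRing O K] {ι : Type*} (s : Finset ι) (c : ι → K)
    (hne : ∃ i ∈ s, c i ≠ 0) : ∃ i ∈ s, c i ≠ 0 ∧ ∀ j ∈ s, c j / c i ∈ O := by
  classical
  induction s using Finset.induction with
  | empty => obtain ⟨i, hi, -⟩ := hne; simp at hi
  | insert a s ha ih =>
    by_cases h : ∃ i ∈ s, c i ≠ 0
    · obtain ⟨i, hi, hi0, hmax⟩ := ih h
      by_cases hai : c a / c i ∈ O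
      · refine ⟨i, Finset.mem_insert_of_mem hi, hi0, fun j hj => ?_⟩
        rcases Finset.mem_insert.mp hj with rfl | hj
        · exact hai
        · exact hmax j hj
      · have hinv : c i / c a ∈ O := by
          rcases ValuationRing.isInteger_or_isInteger O (c a / c i) with ⟨o, ho⟩ | ⟨o, ho⟩
          · exact absurd (ho ▸ o.2) hai
          · rw [inv_div] at ho
            exact ho ▸ o.2
        have ha0 : c a ≠ 0 := fun h0 => hai (by rw [h0, zero_div]; exact O.zero_mem)
        refine ⟨a, Finset.mem_insert_self a s, ha0, fun j hj => ?_⟩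
        rcases Finset.mem_insert.mp hj with rfl | hj
        · rw [div_self ha0]; exact O.one_mem
        · rw [show c j / c a = c j / c i * (c i / c a) by field_simp]
          exact O.mul_mem (hmax j hj) hinv
    · push Not at h
      obtain ⟨i, hi, hi0⟩ := hne
      rcases Finset.mem_insert.mp hi with rfl | hi'
      · refine ⟨i, hi, hi0, fun j hj => ?_⟩
        rcases Finset.mem_insert.mp hj with rfl | hj
        · rw [div_self hi0]; exact O.one_mem
        · rw [h j hj, zero_div]; exact O.zero_mem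
      · exact absurd (h i hi') hi0

variable [IsLocalRing O]

/-- The residue map. -/
abbrev resA : O →ₐ[k] ResidueField O := IsScalarTower.toAlgHom k O (ResidueField O)

theorem exists_normal [ValuationRing O] [IsFractionRing O K] {f : B ⊗[k] K} (hf : f ≠ 0) :
    ∃ (c : K) (f' : B ⊗[k] O), c ≠ 0 ∧ Algebra.TensorProduct.map (AlgHom.id k B) O.val f' * (1 ⊗ₜ c) = f ∧
      Algebra.TensorProduct.map (AlgHom.id k B) (resA O) f' ≠ 0 := by
  classical
  let b := Module.Basis.ofVectorSpace k B
  let e := TensorProduct.equivFinsuppOfBasisLeft b (N := K)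
  have hsupp : ∃ i ∈ (e f).support, e f i ≠ 0 := by
    by_contra! h0
    exact hf (e.injective (Finsupp.ext fun i => by
      by_cases hi : i ∈ (e f).support
      · rw [h0 i hi]; simp
      · simp [Finsupp.notMem_support_iff.mp hi]))
  obtain ⟨i₀, hi₀, hc, hmax⟩ := exists_max O (e f).support (fun i => e f i) hsupp
  let o : _ → O := fun i => if h : i ∈ (e f).support then ⟨_, hmax i h⟩ else 0
  let f' : B ⊗[k] O := ∑ i ∈ (e f).support, b i ⊗ₜ o i
  refine ⟨e f i₀, f', hc, ?_, fun hz => ?_⟩
  · conv_rhs => rw [← e.symm_apply_apply f, TensorProduct.equivFinsuppOfBasisLeft_symm_apply, Finsupp.sum]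
    simp only [f', map_sum, Finset.sum_mul]
    refine Finset.sum_congr rfl fun i hi => ?_
    simp only [Algebra.TensorProduct.map_tmul, AlgHom.coe_id, id_eq, Algebra.TensorProduct.tmul_mul_tmul, mul_one]
    congr 1
    simp only [o, dif_pos hi, Subalgebra.coe_val]
    exact div_mul_cancel₀ _ hc
  · let e' := TensorProduct.equivFinsuppOfBasisLeft b (N := ResidueField O)
    have h1 : e' (Algebra.TensorProduct.map (AlgHom.id k B) (resA O) f') i₀ = 1 := by
      simp only [f', map_sum, Algebra.TensorProduct.map_tmul, AlgHom.coe_id, id_eq, Finsupp.coe_finset_sum,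
        Finset.sum_apply]
      rw [Finset.sum_eq_single i₀]
      · have hi : o i₀ = 1 := by
          simp only [o, dif_pos hi₀]
          exact Subtype.ext (div_self hc)
        simp [e', TensorProduct.equivFinsuppOfBasisLeft_apply_tmul, hi]
      · intro i _ hne
        simp [e', TensorProduct.equivFinsuppOfBasisLeft_apply_tmul, hne]
      · exact fun h => absurd hi₀ h
    rw [hz, map_zero] at h1
    exact zero_ne_one h1

theorem gen_isUnit_evA {f' : B ⊗[k] O} (h : Algebra.TensorProduct.map (AlgHom.id k B) (resA O) f' ≠ 0) :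
    Gen fun x : B →ₐ[k] k => IsUnit (evA x f') :=
  (gen_evA_ne_zero h).mono fun x hx => by
    rw [evA_map] at hx
    exact (residue_ne_zero_iff_isUnit _).mp hx

variable [ValuationRing O] [IsFractionRing O K]

theorem exists_const {a : K} (ha : a ≠ 0) :
    ∃ z : K, z ≠ 0 ∧ Gen fun x => ∃ o : O, IsUnit o ∧ D.act x a = z * o := by
  obtain ⟨f, s, hs, h⟩ := D.rat a
  have hf : f ≠ 0 := fun hf => by
    obtain ⟨x, hx⟩ := (gen_evA_ne_zero hs).exists
    have := h x hx
    rw [hf, map_zero, mul_eq_zero] at this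
    exact this.elim hx fun h0 => ha ((map_eq_zero_iff _ (D.σ (D.pt x)).injective).mp h0)
  obtain ⟨c, f', hc, hf', hfu⟩ := exists_normal O hf
  obtain ⟨d, s', hd, hs', hsu⟩ := exists_normal O hs
  refine ⟨c / d, div_ne_zero hc hd, ?_⟩
  refine (((gen_isUnit_evA O hfu).and (gen_isUnit_evA O hsu)).and (gen_evA_ne_zero hs)).mono fun x hx => ?_
  obtain ⟨⟨⟨u, hu⟩, ⟨w, hw⟩⟩, hne⟩ := hx
  refine ⟨↑(u * w⁻¹ : Oˣ), Units.isUnit _, ?_⟩
  have ef : evA x f = (u : O) * c := by
    rw [← hf', map_mul, evA_map, evA_tmul, map_one, one_smul, hu]; rfl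
  have es : evA x s = (w : O) * d := by
    rw [← hs', map_mul, evA_map, evA_tmul, map_one, one_smul, hw]; rfl
  have key := h x hne
  rw [ef, es] at key
  have hw1 : ((w : O) : K) * (((w⁻¹ : Oˣ) : O) : K) = 1 := by
    rw [← MulMemClass.coe_mul, Units.mul_inv, OneMemClass.coe_one]
  rw [Units.val_mul, MulMemClass.coe_mul]
  field_simp
  linear_combination (((w⁻¹ : Oˣ) : O) : K) * key - d * D.act x a * hw1

/-- The generic translate of `O`. -/
def genRing : Subalgebra k K where
  carrier := {a | Gen fun x => D.act x a ∈ O}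
  mul_mem' {a b} ha hb := (ha.and hb).mono fun x hx => by
    simp only [RatAct.act, map_mul]; exact O.mul_mem hx.1 hx.2
  add_mem' {a b} ha hb := (ha.and hb).mono fun x hx => by
    simp only [RatAct.act, map_add]; exact O.add_mem hx.1 hx.2
  algebraMap_mem' r := gen_of_forall fun x => by
    simp only [RatAct.act, AlgEquiv.commutes]; exact O.algebraMap_mem r

/-- Elements whose general translate is a non-unit. -/
def InM (a : K) : Prop := Gen fun x => ∃ o : O, o ∈ maximalIdeal O ∧ D.act x a = o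

omit [ValuationRing O] [IsFractionRing O K] in
theorem inM_mem {a : K} (h : InM D O a) : a ∈ genRing D O :=
  Gen.mono h fun _ ⟨o, _, ho⟩ => ho ▸ o.2

theorem inM_or_inv {a : K} (ha : a ≠ 0) : a ∈ genRing D O ∨ InM D O a⁻¹ := by
  obtain ⟨z, hz, hg⟩ := exists_const D O ha
  by_cases hzO : z ∈ O
  · exact .inl (hg.mono fun x ⟨o, _, ho⟩ => ho ▸ O.mul_mem hzO o.2)
  · rcases ValuationRing.isInteger_or_isInteger O z with ⟨o, ho⟩ | ⟨o, ho⟩
    · exact absurd (ho ▸ o.2) hzO
    · refine .inr (hg.mono fun x ⟨u, ⟨u', hu'⟩, hu⟩ => ?_)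
      have hom : o ∈ maximalIdeal O := fun hou => by
        obtain ⟨w, hw⟩ := hou
        refine hzO ?_
        have h1 : ((w⁻¹ : Oˣ) : O) * o = 1 := by rw [← hw, Units.inv_mul]
        have h2 := congrArg (fun t : O => (t : K) * z) h1
        simp only [MulMemClass.coe_mul, OneMemClass.coe_one, one_mul, mul_assoc] at h2
        have ho' : (o : K) * z = 1 := by
          rw [show (o : K) = z⁻¹ from ho, inv_mul_cancel₀ hz]
        rw [ho', mul_one] at h2
        exact h2 ▸ ((w⁻¹ : Oˣ) : O).2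
      refine ⟨o * ((u'⁻¹ : Oˣ) : O), Ideal.mul_mem_right _ _ hom, ?_⟩
      simp only [RatAct.act] at hu ⊢
      rw [map_inv₀, hu, mul_inv, MulMemClass.coe_mul, show (o : K) = z⁻¹ from ho, ← hu']
      congr 1
      refine inv_eq_of_mul_eq_one_right ?_
      rw [← MulMemClass.coe_mul, Units.mul_inv, OneMemClass.coe_one]

theorem gen_isUnit_or_inM {a : K} (ha : a ∈ genRing D O) :
    InM D O a ∨ Gen fun x => ∃ o : O, IsUnit o ∧ D.act x a = o := by
  rcases eq_or_ne a 0 with rfl | ha0
  · exact .inl (gen_of_forall fun x => ⟨0, zero_mem _, by simp⟩)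
  obtain ⟨z, hz, hg⟩ := exists_const D O ha0
  obtain ⟨x, hxa, u, hu, hxu⟩ := (Gen.and ha hg).exists
  obtain ⟨v, hv⟩ := hu.exists_right_inv
  have hzO : z ∈ O := by
    have : z = D.act x a * v := by
      rw [hxu, mul_assoc, ← MulMemClass.coe_mul, hv, OneMemClass.coe_one, mul_one]
    exact this ▸ O.mul_mem hxa v.2
  by_cases hzu : IsUnit (⟨z, hzO⟩ : O)
  · exact .inr (hg.mono fun x ⟨u, hu, hxu⟩ => ⟨⟨z, hzO⟩ * u, hzu.mul hu, hxu⟩)
  · exact .inl (hg.mono fun x ⟨u, _, hxu⟩ => ⟨⟨z, hzO⟩ * u, Ideal.mul_mem_right _ _ hzu, hxu⟩)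

omit [ValuationRing O] [IsFractionRing O K] [IsLocalRing O] in
theorem genRing_invariant (γ : Γ) {a : K} (ha : a ∈ genRing D O) : D.σ γ a ∈ genRing D O :=
  (D.transl γ ha).mono fun x ⟨y, hy, h⟩ => by
    simp only [RatAct.act, hy, mul_comm γ, map_mul, AlgEquiv.mul_apply] at h ⊢
    exact h

omit [ValuationRing O] [IsFractionRing O K] in
theorem inM_invariant (γ : Γ) {a : K} (ha : InM D O a) : InM D O (D.σ γ a) :=
  (D.transl γ ha).mono fun x ⟨y, hy, h⟩ => by
    simp only [RatAct.act, hy, mul_comm γ, map_mul, AlgEquiv.mul_apply] at h ⊢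
    exact h

omit [IsLocalRing O] [ValuationRing O] [IsFractionRing O K] in
theorem exists_notMem {ι : Type*} (s : Finset ι) (b : ι → K)
    (hno : ∀ x, ∃ i ∈ s, D.act x (b i) ∉ O) : ∃ i ∈ s, b i ∉ genRing D O := by
  by_contra! h
  obtain ⟨x, hx⟩ := (gen_all s h).exists
  obtain ⟨i, hi, hni⟩ := hno x
  exact hni (hx i hi)

end Groth.Agent.Chevalley.Val
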