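import Groth.Agent.Chevalley.Val.Aff
import Groth.Agent.Chevalley.Val.GenVal
import Groth.Agent.GrpSchLib.HomFinite
import Groth.Agent.Proj16.Centre
import Groth.Agent.AlbQuotLib.Albanese
import Groth.Agent.AVSplitLib.Retraction
import Groth.Agent.H23.RatExtend

/-!
A commutative group acts rationally on its function field.
-/

set_option backward.isDefEq.respectTransparency false

universe u

noncomputable section

open CategoryTheory AlgebraicGeometry MonoidalCategory CartesianMonoidalCategory MonObj TensorProduct

namespace Groth.Agent.Chevalley.Val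

variable {k : Type u} [Field k] {C : Over (Spec (CommRingCat.of k))} [GrpObj C] [IsCommMonObj C]

/-- Rational points form a commutative group. -/
instance ptsCommGroup : CommGroup (𝟙_ (Over (Spec (CommRingCat.of k))) ⟶ C) :=
  { Hom.group, (inferInstance : CommMonoid (𝟙_ (Over (Spec (CommRingCat.of k))) ⟶ C)) with }

/-- Translation by a point. -/
abbrev tr (gp : 𝟙_ (Over (Spec (CommRingCat.of k))) ⟶ C) : C ⟶ C := (GrpSchLib.HomFinite.trans gp).hom

theorem tr_eq (gp : 𝟙_ (Over (Spec (CommRingCat.of k))) ⟶ C) : tr gp = (toUnit C ≫ gp) * 𝟙 C := rfl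

theorem comp_tr {T : Over (Spec (CommRingCat.of k))} (f : T ⟶ C) (gp : 𝟙_ (Over (Spec (CommRingCat.of k))) ⟶ C) :
    f ≫ tr gp = (toUnit T ≫ gp) * f := by
  rw [tr_eq, MonObj.comp_mul, Category.comp_id, ← Category.assoc, comp_toUnit]

theorem pt_tr (x gp : 𝟙_ (Over (Spec (CommRingCat.of k))) ⟶ C) : x ≫ tr gp = gp * x := by
  rw [comp_tr, toUnit_unique (toUnit _) (𝟙 _), Category.id_comp]

theorem tr_tr (gp gq : 𝟙_ (Over (Spec (CommRingCat.of k))) ⟶ C) : tr gp ≫ tr gq = tr (gp * gq) := by
  rw [comp_tr, tr_eq gp, tr_eq (gp * gq), MonObj.comp_mul, ← _root_.mul_assoc, mul_comm (toUnit C ≫ gq)]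

variable [IsIntegral C.left]

/-- The generic point as a map from the function field. -/
abbrev gen : Spec C.left.functionField ⟶ C.left := C.left.fromSpecStalk (genericPoint C.left)

/-- The constants in the function field. -/
instance fieldAlg : Algebra k C.left.functionField :=
  (Spec.preimage (gen (C := C) ≫ C.hom)).hom.toAlgebra

theorem specMap_algebraMap :
    Spec.map (CommRingCat.ofHom (algebraMap k C.left.functionField)) = gen (C := C) ≫ C.hom :=
  Spec.map_preimage _

/-- The generic point over the base. -/
def genO : aff (k := k) C.left.functionField ⟶ C := Over.homMk (gen (C := C)) specMap_algebraMap.symm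

theorem genO_left : (genO (C := C)).left = gen (C := C) := rfl

instance mono_genO : Mono (genO (C := C)) := by
  haveI : Mono (genO (C := C)).left := inferInstanceAs (Mono (gen (C := C)))
  exact Over.mono_of_mono_left _

theorem tr_genericPoint (gp : 𝟙_ (Over (Spec (CommRingCat.of k))) ⟶ C) :
    (tr gp).left (genericPoint C.left) = genericPoint C.left := by
  haveI : IsIso (tr gp).left := ((Over.forget _).mapIso (GrpSchLib.HomFinite.trans gp)).isIso_hom
  exact AVSplitLib.map_genericPoint (tr gp).left

theorem exists_act (gp : 𝟙_ (Over (Spec (CommRingCat.of k))) ⟶ C) :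
    ∃ f : C.left.functionField →ₐ[k] C.left.functionField, affMap f ≫ genO = genO ≫ tr gp := by
  have hy : (tr gp).left (genericPoint C.left) ⤳ genericPoint C.left := by rw [tr_genericPoint]
  let φ := Proj16.toFunctionField (tr gp).left hy
  have hφ : Spec.map φ ≫ gen = gen (C := C) ≫ (tr gp).left := Proj16.specMap_toFunctionField _ hy
  have hk : CommRingCat.ofHom (algebraMap k C.left.functionField) ≫ φ =
      CommRingCat.ofHom (algebraMap k C.left.functionField) := Spec.map_injective (by
    rw [Spec.map_comp, specMap_algebraMap, ← Category.assoc, hφ, Category.assoc, Over.w (tr gp)])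
  exact ⟨AlgHom.mk φ.hom fun c => congrArg (fun r => r.hom c) hk, Over.OverMorphism.ext hφ⟩

/-- The action of a point on the function field. -/
def actHom (gp : 𝟙_ (Over (Spec (CommRingCat.of k))) ⟶ C) : C.left.functionField →ₐ[k] C.left.functionField :=
  (exists_act gp).choose

theorem actHom_spec (gp : 𝟙_ (Over (Spec (CommRingCat.of k))) ⟶ C) : affMap (actHom gp) ≫ genO = genO ≫ tr gp :=
  (exists_act gp).choose_spec

theorem actHom_one : actHom (1 : 𝟙_ (Over (Spec (CommRingCat.of k))) ⟶ C) = AlgHom.id k _ := by
  refine affMap_inj ((cancel_mono genO).mp ?_)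
  rw [actHom_spec, comp_tr, MonObj.comp_one, _root_.one_mul, affMap_id, Category.id_comp]

theorem actHom_mul (gp gq : 𝟙_ (Over (Spec (CommRingCat.of k))) ⟶ C) :
    actHom (gp * gq) = (actHom gp).comp (actHom gq) := by
  refine affMap_inj ((cancel_mono genO).mp ?_)
  rw [actHom_spec, ← affMap_comp, Category.assoc, actHom_spec, ← Category.assoc, actHom_spec, Category.assoc, tr_tr]

/-- The points act by field automorphisms. -/
def actEquiv : (𝟙_ (Over (Spec (CommRingCat.of k))) ⟶ C) →* (C.left.functionField ≃ₐ[k] C.left.functionField) where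
  toFun gp := AlgEquiv.ofAlgHom (actHom gp) (actHom gp⁻¹) (by rw [← actHom_mul, mul_inv_cancel, actHom_one])
    (by rw [← actHom_mul, inv_mul_cancel, actHom_one])
  map_one' := AlgEquiv.ext fun a => by
    simp only [AlgEquiv.ofAlgHom_apply, actHom_one, AlgHom.coe_id, id_eq, AlgEquiv.one_apply]
  map_mul' gp gq := AlgEquiv.ext fun a => by
    simp only [AlgEquiv.ofAlgHom_apply, actHom_mul, AlgHom.comp_apply, AlgEquiv.mul_apply]

theorem actEquiv_apply (gp : 𝟙_ (Over (Spec (CommRingCat.of k))) ⟶ C) (a : C.left.functionField) :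
    actEquiv gp a = actHom gp a := rfl

variable [IsReduced C.left] [IsSeparated C.hom]

theorem actEquiv_injective : Function.Injective (actEquiv (C := C)) := by
  rw [injective_iff_map_eq_one]
  intro gp h
  have h1 : actHom gp = AlgHom.id k _ := AlgHom.ext fun a => by rw [← actEquiv_apply, h]; rfl
  have h2 : gen (C := C) ≫ (tr gp).left = gen (C := C) ≫ (𝟙 C : C ⟶ C).left := by
    have h3 := congrArg CommaMorphism.left (actHom_spec gp)
    rw [h1] at h3
    rw [Over.id_left, Category.comp_id]
    rw [affMap_id, Category.id_comp] at h3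
    exact h3.symm
  haveI : IsDominant (gen (C := C)) := H23.RatExtend.isDominant_fromSpecStalk
  have h4 : tr gp = 𝟙 C := Over.OverMorphism.ext
    (ext_of_isDominant_of_isSeparated C.hom (by rw [Over.w, Over.w]) (gen (C := C)) h2)
  have h5 := pt_tr (1 : 𝟙_ (Over (Spec (CommRingCat.of k))) ⟶ C) gp
  rw [h4, Category.comp_id, _root_.mul_one] at h5
  exact h5.symm

section Chart

variable {U : C.left.Opens} [Nonempty U] (hU : IsAffineOpen U)

theorem affMap_germ :
    letI := secAlg U
    ∃ h : IsScalarTower k Γ(C.left, U) C.left.functionField,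
      affMap (IsScalarTower.toAlgHom k Γ(C.left, U) C.left.functionField) ≫ chartPt hU = genO (C := C) := by
  letI := secAlg U
  have hmem : genericPoint C.left ∈ U :=
    ((genericPoint_spec C.left).mem_open_set_iff U.2).mpr (by simpa using (Set.nonempty_coe_sort.mp ‹Nonempty U›))
  have hfs : Spec.map (C.left.germToFunctionField U) ≫ hU.fromSpec = gen :=
    hU.fromSpecStalk_eq_fromSpecStalk hmem
  have hfw : hU.fromSpec ≫ C.hom = Spec.map (CommRingCat.ofHom (algebraMap k Γ(C.left, U))) :=
    Over.w (chartPt hU)
  have hk : CommRingCat.ofHom (algebraMap k Γ(C.left, U)) ≫ C.left.germToFunctionField U =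
      CommRingCat.ofHom (algebraMap k C.left.functionField) := Spec.map_injective (by
    rw [Spec.map_comp, specMap_algebraMap, ← hfw, ← Category.assoc, hfs])
  haveI ht : IsScalarTower k Γ(C.left, U) C.left.functionField :=
    IsScalarTower.of_algebraMap_eq fun c => (congrArg (fun r => r.hom c) hk).symm
  exact ⟨ht, Over.OverMorphism.ext hfs⟩

end Chart

end Groth.Agent.Chevalley.Val
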