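import Groth.Agent.Chevalley.Val.Chart
import Groth.Agent.GrpSchLib.IdentityComp
import Groth.Agent.GrpSchLib.MonoSubgroup
import Groth.Agent.GrpSchLib.FieldReduced
import Groth.Agent.GrpSchLib.PerfectSmooth
import Groth.Agent.GrpSchLib.SmoothReduced
import Groth.Agent.H23.RedSub

/-!
An infinite monoid of points of a group without small connected subgroups is dense.
-/

universe u

set_option backward.isDefEq.respectTransparency false

noncomputable section

open CategoryTheory CategoryTheory.Limits AlgebraicGeometry MonoidalCategory CartesianMonoidalCategory MonObj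

namespace Groth.Agent.Chevalley.Val

variable {k : Type u} [Field k] [IsAlgClosed k] {C : Over (Spec (CommRingCat.of k))} [GrpObj C] [IsCommMonObj C]
  [LocallyOfFiniteType C.hom] [QuasiCompact C.hom] [IsSeparated C.hom]

omit [GrpObj C] [IsCommMonObj C] [QuasiCompact C.hom] [IsSeparated C.hom] in
theorem range_subset_of_points {T : Over (Spec (CommRingCat.of k))} [LocallyOfFiniteType T.hom] (f : T ⟶ C)
    {Z : Set C.left} (hZ : IsClosed Z)
    (h : ∀ t : 𝟙_ (Over (Spec (CommRingCat.of k))) ⟶ T, pp (t ≫ f) ∈ Z) : Set.range f.left ⊆ Z := by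
  rintro _ ⟨t, rfl⟩
  by_contra hne
  obtain ⟨s, hs⟩ := exists_point (C := T) (U := ⟨f.left ⁻¹' Zᶜ, hZ.isOpen_compl.preimage f.left.continuous⟩) ⟨t, hne⟩
  exact hs (h s)

theorem eq_univ_of_infinite_monoid
    (hsimple : ∀ (H : Over (Spec (CommRingCat.of k))) [GrpObj H] (h : H ⟶ C) [IsMonHom h] [IsClosedImmersion h.left]
      [Smooth H.hom] [ConnectedSpace H.left], IsIso η[H] ∨ IsIso h.left)
    (S : Submonoid (𝟙_ (Over (Spec (CommRingCat.of k))) ⟶ C))
    (hS : (S : Set (𝟙_ (Over (Spec (CommRingCat.of k))) ⟶ C)).Infinite) :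
    closure (pp '' (S : Set (𝟙_ (Over (Spec (CommRingCat.of k))) ⟶ C))) = Set.univ := by
  haveI : JacobsonSpace C.left := LocallyOfFiniteType.jacobsonSpace C.hom
  haveI : IsLocallyNoetherian C.left := LocallyOfFiniteType.isLocallyNoetherian C.hom
  haveI : CompactSpace C.left := (quasiCompact_iff_compactSpace C.hom).mp inferInstance
  let Z : Set C.left := closure (pp '' (S : Set (𝟙_ (Over (Spec (CommRingCat.of k))) ⟶ C)))
  have hZ : IsClosed Z := isClosed_closure
  have hinj : Function.Injective (pp (C := C)) := fun a b h =>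
    Over.OverMorphism.ext (ext_of_apply_closedPoint_eq C.hom (Over.w a) (Over.w b) h)
  have hmap : ∀ (a : 𝟙_ (Over (Spec (CommRingCat.of k))) ⟶ C) (c : 𝟙_ (Over (Spec (CommRingCat.of k))) ⟶ C),
      (tr a).left (pp c) = pp (a * c) := fun a c => by
    rw [← pt_tr c a]; rfl
  have h1 : ∀ s ∈ S, ∀ z ∈ Z, (tr s).left z ∈ Z := by
    intro s hs z hz
    refine closure_mono ?_ (mem_closure_image (tr s).left.continuous.continuousAt hz)
    rintro _ ⟨_, ⟨t, ht, rfl⟩, rfl⟩
    exact ⟨s * t, S.mul_mem hs ht, (hmap s t).symm⟩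
  have h2 : ∀ a b : 𝟙_ (Over (Spec (CommRingCat.of k))) ⟶ C, pp a ∈ Z → pp b ∈ Z → pp (a * b) ∈ Z := by
    intro a b ha hb
    have h3 : ∀ s ∈ S, (tr b).left (pp s) ∈ Z := fun s hs => by
      rw [hmap, mul_comm, ← hmap]
      exact h1 s hs _ hb
    have h4 : (tr b).left (pp a) ∈ Z := by
      refine hZ.closure_subset (closure_mono ?_ (mem_closure_image (tr b).left.continuous.continuousAt ha))
      rintro _ ⟨_, ⟨t, ht, rfl⟩, rfl⟩
      exact h3 t ht
    rwa [hmap, mul_comm] at h4
  have hone : pp (1 : 𝟙_ (Over (Spec (CommRingCat.of k))) ⟶ C) ∈ Z := subset_closure ⟨1, S.one_mem, rfl⟩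
  -- inverses, by the noetherian property
  haveI : IsNoetherian C.left := {}
  haveI : TopologicalSpace.NoetherianSpace C.left := inferInstance
  have h3 : ∀ a : 𝟙_ (Over (Spec (CommRingCat.of k))) ⟶ C, pp a ∈ Z → pp a⁻¹ ∈ Z := by
    intro a ha
    have hsub : ∀ (c : 𝟙_ (Over (Spec (CommRingCat.of k))) ⟶ C), pp c ∈ Z → ∀ z ∈ Z, (tr c).left z ∈ Z := by
      intro c hc z hz
      refine hZ.closure_subset (closure_mono ?_ (mem_closure_image (tr c).left.continuous.continuousAt hz))
      rintro _ ⟨_, ⟨t, ht, rfl⟩, rfl⟩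
      rw [hmap]
      exact h2 c t hc (subset_closure ⟨t, ht, rfl⟩)
    let F : ℕ → TopologicalSpace.Closeds C.left := fun n =>
      ⟨(tr (a ^ n)⁻¹).left ⁻¹' Z, hZ.preimage (tr (a ^ n)⁻¹).left.continuous⟩
    have hpre : ∀ (c d : 𝟙_ (Over (Spec (CommRingCat.of k))) ⟶ C) (x : C.left),
        (tr d).left ((tr c).left x) = (tr (c * d)).left x := fun c d x => by
      rw [← tr_tr]; rfl
    have hanti : Antitone F := antitone_nat_of_succ_le fun n x hx => by
      show (tr (a ^ n)⁻¹).left x ∈ Z
      have h5 : (tr (a ^ (n + 1))⁻¹).left x ∈ Z := hx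
      have h6 := hsub a ha _ h5
      rwa [hpre, pow_succ, mul_inv_rev, mul_comm a⁻¹, _root_.mul_assoc, inv_mul_cancel, _root_.mul_one] at h6
    obtain ⟨n, hn⟩ := WellFoundedLT.antitone_chain_condition hanti
    have h7 : pp (a ^ n) ∈ (F n : Set C.left) := by
      show (tr (a ^ n)⁻¹).left (pp (a ^ n)) ∈ Z
      rw [hmap, inv_mul_cancel]; exact hone
    have h8 : F n = F (n + 1) := hn (n + 1) (Nat.le_succ n)
    rw [h8] at h7
    have h9 : (tr (a ^ (n + 1))⁻¹).left (pp (a ^ n)) ∈ Z := h7
    rwa [hmap, pow_succ, mul_inv_rev, _root_.mul_assoc, inv_mul_cancel, _root_.mul_one] at h9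
  -- the subgroup scheme
  let I := Scheme.IdealSheafData.vanishingIdeal (⟨Z, hZ⟩ : TopologicalSpace.Closeds C.left)
  let H : Over (Spec (CommRingCat.of k)) := Over.mk (I.subschemeι ≫ C.hom)
  let i : H ⟶ C := Over.homMk I.subschemeι rfl
  have hir : Set.range i.left = Z := by
    show Set.range I.subschemeι = Z
    rw [Scheme.IdealSheafData.range_subschemeι, Scheme.IdealSheafData.coe_support_vanishingIdeal]
    rfl
  haveI : IsClosedImmersion i.left := inferInstanceAs (IsClosedImmersion I.subschemeι)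
  haveI : Mono i := Over.mono_of_mono_left _
  haveI : AlgebraicGeometry.IsReduced H.left := H23.RedSub.isReduced_vanishingIdeal _
  haveI : LocallyOfFiniteType H.hom := inferInstanceAs (LocallyOfFiniteType (I.subschemeι ≫ C.hom))
  haveI : QuasiCompact H.hom := inferInstanceAs (QuasiCompact (I.subschemeι ≫ C.hom))
  haveI : AlgebraicGeometry.IsReduced (H ⊗ H).left := GrpSchLib.isReduced_pullback_of_perfectField H.hom H.hom
  haveI : AlgebraicGeometry.IsReduced (𝟙_ (Over (Spec (CommRingCat.of k)))).left :=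
    inferInstanceAs (AlgebraicGeometry.IsReduced (Spec (CommRingCat.of k)))
  haveI : LocallyOfFiniteType (H ⊗ H).hom := inferInstanceAs (LocallyOfFiniteType (pullback.fst H.hom H.hom ≫ H.hom))
  haveI : LocallyOfFiniteType (𝟙_ (Over (Spec (CommRingCat.of k)))).hom :=
    inferInstanceAs (LocallyOfFiniteType (𝟙 (Spec (CommRingCat.of k))))
  have hl : ∀ (T : Over (Spec (CommRingCat.of k))) [LocallyOfFiniteType T.hom] [AlgebraicGeometry.IsReduced T.left]
      (f : T ⟶ C), (∀ t : 𝟙_ (Over (Spec (CommRingCat.of k))) ⟶ T, pp (t ≫ f) ∈ Z) → ∃ g : T ⟶ H, g ≫ i = f := by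
    intro T _ _ f hf
    obtain ⟨g, hg⟩ := H23.RedSub.exists_lift_closed f.left i.left (hir.symm ▸ range_subset_of_points f hZ hf)
    exact ⟨Over.homMk g (by rw [← Over.w i, reassoc_of% hg, Over.w f]), Over.OverMorphism.ext hg⟩
  have hin : ∀ t : 𝟙_ (Over (Spec (CommRingCat.of k))) ⟶ H, pp (t ≫ i) ∈ Z := fun t => by
    rw [← hir]; exact ⟨pp t, rfl⟩
  obtain ⟨e, he⟩ := hl _ η[C] fun t => by
    rw [show η[C] = (1 : 𝟙_ _ ⟶ C) from MonObj.one_eq_one (M := C), MonObj.comp_one]; exact hone
  obtain ⟨m, hm⟩ := hl _ ((fst H H ≫ i) * (snd H H ≫ i)) fun t => by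
    rw [MonObj.comp_mul, ← Category.assoc, ← Category.assoc]
    exact h2 _ _ (hin _) (hin _)
  obtain ⟨v, hv⟩ := hl _ i⁻¹ fun t => by
    rw [GrpObj.comp_inv]
    exact h3 _ (hin t)
  obtain ⟨str, hi⟩ := GrpSchLib.exists_grpObj_of_mono i e he m hm v hv
  letI := str
  haveI := hi
  haveI : Smooth H.hom := GrpSchLib.smooth_of_perfectField_of_isReduced H
  obtain ⟨N, _, ι₀, _, hc₀, hf₀, hr₀, hgi₀, -⟩ := GrpSchLib.exists_identityComponent (G := H)
  haveI := hc₀; haveI := hf₀; haveI := hgi₀
  haveI : IsLocallyNoetherian H.left := LocallyOfFiniteType.isLocallyNoetherian H.hom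
  haveI : IsOpenImmersion ι₀.left := IsOpenImmersion.of_flat_of_mono ι₀.left
  haveI hsmN : Smooth N.hom := by rw [← Over.w ι₀]; infer_instance
  haveI : ConnectedSpace N.left := by
    haveI : IrreducibleSpace N.left := GeometricallyIrreducible.irreducibleSpace_of_subsingleton N.hom
    infer_instance
  haveI : IsClosedImmersion (ι₀ ≫ i).left := inferInstanceAs (IsClosedImmersion (ι₀.left ≫ i.left))
  rcases hsimple N (ι₀ ≫ i) with hN | hN
  · exfalso
    haveI : IsIso η[N].left := ((Over.forget _).mapIso (asIso η[N])).isIso_hom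
    haveI : Subsingleton (𝟙_ (Over (Spec (CommRingCat.of k)))).left := inferInstanceAs (Subsingleton (Spec (CommRingCat.of k)))
    haveI : Subsingleton N.left := Function.Surjective.subsingleton (η[N].left).surjective
    have hopen : IsOpen ({pp η[H]} : Set H.left) := by
      have : Set.range ι₀.left = {pp η[H]} := by
        refine Set.eq_singleton_iff_unique_mem.mpr ⟨hr₀ ▸ mem_connectedComponent, ?_⟩
        rintro _ ⟨y, rfl⟩
        obtain ⟨y', hy'⟩ : pp η[H] ∈ Set.range ι₀.left := hr₀ ▸ mem_connectedComponent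
        rw [← hy', Subsingleton.elim y' y]
      exact this ▸ ι₀.left.isOpenEmbedding.isOpen_range
    haveI : JacobsonSpace H.left := LocallyOfFiniteType.jacobsonSpace H.hom
    haveI : CompactSpace H.left := (quasiCompact_iff_compactSpace H.hom).mp inferInstance
    have hclopen : ∀ c ∈ closedPoints H.left, IsOpen ({c} : Set H.left) := by
      intro c hc
      have h0 : IsClosed ({pp η[H]} : Set H.left) := by
        obtain ⟨d, hd, hdc⟩ := nonempty_inter_closedPoints (Z := {pp η[H]}) (Set.singleton_nonempty _) hopen.isLocallyClosed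
        rw [← Set.mem_singleton_iff.mp hd]; exact hdc
      obtain ⟨a, ha⟩ := GrpSchLib.HomFinite.exists_trans (G := H) (pp η[H]) c h0 hc
      have : (GrpSchLib.HomFinite.trans a).hom.left '' {pp η[H]} = {c} := by rw [Set.image_singleton, ha]
      rw [← this]
      haveI : IsIso (GrpSchLib.HomFinite.trans a).hom.left :=
        ((Over.forget _).mapIso (GrpSchLib.HomFinite.trans a)).isIso_hom
      exact (GrpSchLib.HomFinite.trans a).hom.left.homeomorph.isOpenMap _ hopen
    have huniv : ∀ x : H.left, x ∈ closedPoints H.left := by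
      intro x
      obtain ⟨c, hc, hcc⟩ := nonempty_inter_closedPoints (Z := closure ({x} : Set H.left))
        ⟨x, subset_closure rfl⟩ isClosed_closure.isLocallyClosed
      have : x ∈ ({c} : Set H.left) := (specializes_iff_mem_closure.mpr hc).mem_open (hclopen c hcc) rfl
      rw [Set.mem_singleton_iff.mp this]; exact hcc
    haveI : DiscreteTopology H.left := discreteTopology_iff_isOpen_singleton.mpr fun x => hclopen x (huniv x)
    haveI : Finite H.left := finite_of_compact_of_discrete
    refine hS ?_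
    have hfin : (pp '' (S : Set (𝟙_ (Over (Spec (CommRingCat.of k))) ⟶ C))).Finite :=
      (Set.finite_range i.left).subset (subset_closure.trans hir.ge)
    exact hfin.of_finite_image hinj.injOn
  · refine Set.eq_univ_of_forall fun x => ?_
    haveI := hN
    obtain ⟨y, hy⟩ := (ι₀ ≫ i).left.surjective x
    show x ∈ Z
    rw [← hir, ← hy]
    exact ⟨ι₀.left y, rfl⟩

end Groth.Agent.Chevalley.Val
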