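import Groth.Agent.Chevalley.Val.GenVal
import Mathlib.RingTheory.AlgebraicIndependent.TranscendenceBasis

/-!
The residue field of the generic translate of a valuation ring has large transcendence degree.
-/

universe u

noncomputable section

open TensorProduct IsLocalRing Cardinal

namespace Groth.Agent.Chevalley.Val

variable {k : Type u} [Field k]

theorem indep_sumElim {L : Type u} [Field L] [Algebra k L] (R : Subalgebra k L) {ι κ : Type u}
    (x : ι → R) (hx : AlgebraicIndependent k x) (z : κ → L) (hz : AlgebraicIndependent R z) :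
    AlgebraicIndependent k (Sum.elim z (algebraMap R L ∘ x)) := hx.sumElim_comp hz

theorem card_le_of_indep {L : Type u} [Field L] [Algebra k L] {N n : ℕ} (hN : Algebra.trdeg k L ≤ N)
    (R : Subalgebra k L) (x : Fin n → R) (hx : AlgebraicIndependent k x) {κ : Type u} [Fintype κ] (z : κ → L)
    (hz : AlgebraicIndependent R z) : Fintype.card κ + n ≤ N := by
  let x' : ULift.{u} (Fin n) → R := x ∘ ULift.down
  have h := (indep_sumElim R x' (hx.comp _ ULift.down_injective) z hz).cardinalMk_le_trdeg.trans hN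
  rw [mk_fintype, Fintype.card_sum] at h
  simp only [Fintype.card_ulift, Fintype.card_fin, Nat.cast_le] at h
  exact h

theorem card_le_of_hom {K L : Type u} [Field K] [Algebra k K] [Field L] [Algebra k L] {N n : ℕ}
    (hN : Algebra.trdeg k L ≤ N) (φ : K →ₐ[k] L) (t : Fin n → K) (ht : AlgebraicIndependent k t) {κ : Type u}
    (z : κ → L) [Finite κ] (hz : AlgebraicIndependent φ.range z) : Nat.card κ + n ≤ N := by
  haveI := Fintype.ofFinite κ
  rw [Nat.card_eq_fintype_card]
  exact card_le_of_indep hN φ.range (fun i => φ.rangeRestrict (t i))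
    ((ht.map' (f := φ) φ.injective).of_comp φ.range.val) z hz

theorem exists_indep_subfamily {L : Type u} [Field L] [Algebra k L] (R : Subalgebra k L) {m : ℕ}
    (hR : Algebra.trdeg k R < m) {ι : Type u} [Fintype ι] (z : ι → L) (hz : AlgebraicIndependent k z) :
    ∃ s : Set ι, AlgebraicIndependent R (fun i : s => z i) ∧ Fintype.card ι + 1 ≤ Nat.card s + m := by
  classical
  let T : Subalgebra R L := Algebra.adjoin R (Set.range z)
  let z' : ι → T := fun i => ⟨z i, Algebra.subset_adjoin (Set.mem_range_self i)⟩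
  have htop : Algebra.adjoin R (Set.range z') = ⊤ := by
    have hr : Set.range z' = (Subtype.val : T → L) ⁻¹' Set.range z := by
      ext ⟨t, ht⟩
      exact ⟨fun ⟨i, hi⟩ => ⟨i, congrArg Subtype.val hi⟩, fun ⟨i, hi⟩ => ⟨i, Subtype.ext hi⟩⟩
    rw [hr]
    exact Algebra.adjoin_adjoin_coe_preimage
  haveI : Algebra.IsAlgebraic (Algebra.adjoin R (Set.range z')) T := ⟨fun t => by
    have ht : t ∈ Algebra.adjoin R (Set.range z') := htop ▸ Algebra.mem_top
    exact isAlgebraic_algebraMap (⟨t, ht⟩ : Algebra.adjoin R (Set.range z'))⟩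
  haveI : FaithfulSMul R T := (faithfulSMul_iff_algebraMap_injective R T).mpr fun a b h =>
    Subtype.ext (congrArg (Subtype.val : T → L) h)
  obtain ⟨t, hts, ht⟩ := exists_isTranscendenceBasis_subset (R := R) (A := T) (Set.range z')
  choose g hg using fun a : t => hts a.2
  have hginj : Function.Injective g := fun a b h => Subtype.ext (by rw [← hg a, ← hg b, h])
  haveI : Finite t := Finite.of_injective g hginj
  haveI : FaithfulSMul k R := (faithfulSMul_iff_algebraMap_injective k R).mpr (algebraMap k R).injective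
  have hsum := trdeg_add_eq k R (A := T)
  have hlow : (Fintype.card ι : Cardinal) ≤ Algebra.trdeg k T := by
    rw [← mk_fintype]
    exact (hz.of_comp (T.val.restrictScalars k) (x := z')).cardinalMk_le_trdeg
  obtain ⟨r, hr⟩ := lt_aleph0.mp (hR.trans (natCast_lt_aleph0 (n := m)))
  rw [hr, Nat.cast_lt] at hR
  rw [← hsum, ← ht.cardinalMk_eq_trdeg, hr, ← Nat.cast_card, ← Nat.cast_add, Nat.cast_le] at hlow
  refine ⟨Set.range g, ?_, ?_⟩
  · have h1 : AlgebraicIndependent R fun a : t => z (g a) := by
      have h2 := ht.1.map' (f := T.val) Subtype.val_injective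
      convert h2 using 1
      funext a
      exact congrArg (Subtype.val : T → L) (hg a)
    convert h1.comp _ (Equiv.ofInjective g hginj).symm.injective using 1
    funext i
    simp only [Function.comp_apply, Equiv.apply_ofInjective_symm hginj]
  · rw [Nat.card_range_of_injective hginj]
    change Fintype.card ι ≤ r + Nat.card t at hlow
    change Fintype.card ι + 1 ≤ Nat.card t + m
    omega

variable {B : Type u} [IsAlgClosed k] [CommRing B] [IsDomain B] [Algebra k B] [Algebra.FiniteType k B]

theorem algebraicIndependent_family {R : Type u} [CommRing R] [IsDomain R] [Algebra k R] {ι : Type u}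
    (y : ι → R) (hy : AlgebraicIndependent k y) :
    AlgebraicIndependent B fun i => algebraMap (B ⊗[k] R) (FractionRing (B ⊗[k] R)) (1 ⊗ₜ y i) := by
  rw [algebraicIndependent_iff_injective_aeval, injective_iff_map_eq_zero]
  intro P hP
  ext d
  rw [MvPolynomial.coeff_zero]
  refine eq_zero_of_gen (k := k) ?_
  have h := agr_eval₂ (B := B) (R := R) (algebraMap B (FractionRing (B ⊗[k] R))) (fun x b => x b • (1 : R))
    (fun i => algebraMap (B ⊗[k] R) (FractionRing (B ⊗[k] R)) ((1 : B) ⊗ₜ[k] y i)) (fun i _ => y i) (fun b => ?_) (fun i => ?_) P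
  · refine (h.eq_zero_iff.mp (by rwa [MvPolynomial.aeval_def] at hP)).mono fun x hx => ?_
    have hx' : MvPolynomial.aeval y (MvPolynomial.map (x : B →+* k) P) = 0 := by
      rw [← hx, MvPolynomial.aeval_def, MvPolynomial.eval₂_map, MvPolynomial.eval₂_eq]
      refine Finset.sum_congr rfl fun d _ => ?_
      simp [Algebra.smul_def, Finsupp.prod]
    have h0 := congrArg (MvPolynomial.coeff d) ((map_eq_zero_iff _ hy).mp hx')
    simpa [MvPolynomial.coeff_map] using h0
  · rw [IsScalarTower.algebraMap_apply B (B ⊗[k] R) (FractionRing (B ⊗[k] R))]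
    exact (agr_of_family (b ⊗ₜ[k] (1 : R))).congr (gen_of_forall fun x => evA_tmul x b 1)
  · exact (agr_of_family _).congr (gen_of_forall fun x => by rw [evA_tmul, map_one, one_smul])

theorem trdeg_family_le {K : Type u} [Field K] [Algebra k K] {n m : ℕ} (b : Fin n → B) (t : Fin m → K)
    [Algebra.IsAlgebraic (Algebra.adjoin k (Set.range b)) B] [Algebra.IsAlgebraic (Algebra.adjoin k (Set.range t)) K] :
    Algebra.trdeg k (FractionRing (B ⊗[k] K)) ≤ (n + m : ℕ) := by
  classical
  let L := FractionRing (B ⊗[k] K)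
  let fB : B →ₐ[k] L := (IsScalarTower.toAlgHom k (B ⊗[k] K) L).comp Algebra.TensorProduct.includeLeft
  let fK : K →ₐ[k] L := (IsScalarTower.toAlgHom k (B ⊗[k] K) L).comp Algebra.TensorProduct.includeRight
  let T : Set L := Set.range (fB ∘ b) ∪ Set.range (fK ∘ t)
  let A := Algebra.adjoin k T
  let C : Subalgebra A L := Subalgebra.algebraicClosure A L
  have halg : ∀ {X : Type u} [CommRing X] [Algebra k X] (f : X →ₐ[k] L) {S : Set X},
      Algebra.IsAlgebraic (Algebra.adjoin k S) X → Function.Injective f → f '' S ⊆ T → ∀ x, f x ∈ C := by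
    intro X _ _ f S hS hf hST x
    have hle : (Algebra.adjoin k S).map f ≤ A := by
      rw [AlgHom.map_adjoin]; exact Algebra.adjoin_mono hST
    let φ : Algebra.adjoin k S →ₐ[k] A :=
      (f.comp (Algebra.adjoin k S).val).codRestrict A fun a => hle ⟨a, a.2, rfl⟩
    have hφ : Function.Injective φ := fun a a' h => Subtype.ext (hf (congrArg Subtype.val h))
    exact (hS.isAlgebraic x).ringHom_of_comp_eq φ.toRingHom f.toRingHom hφ rfl
  have hfB : Function.Injective fB := fun a a' h => by
    have h' := IsFractionRing.injective (B ⊗[k] K) L h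
    exact Algebra.TensorProduct.includeLeft_injective (algebraMap k K).injective h'
  have hB := halg fB (S := Set.range b) inferInstance hfB (by rw [← Set.range_comp]; exact Set.subset_union_left)
  have hK := halg fK (S := Set.range t) inferInstance fK.injective
    (by rw [← Set.range_comp]; exact Set.subset_union_right)
  have hT : ∀ z : B ⊗[k] K, algebraMap (B ⊗[k] K) L z ∈ C := by
    intro z
    induction z with
    | zero => rw [map_zero]; exact zero_mem C
    | add p q hp hq => rw [map_add]; exact add_mem hp hq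
    | tmul a c =>
      have : algebraMap (B ⊗[k] K) L (a ⊗ₜ c) = fB a * fK c := by simp [fB, fK, ← map_mul]
      rw [this]; exact mul_mem (hB a) (hK c)
  haveI : Algebra.IsAlgebraic A L := ⟨fun q => by
    obtain ⟨f, s, -, rfl⟩ := IsFractionRing.div_surjective (A := B ⊗[k] K) q
    rw [div_eq_mul_inv]
    exact mul_mem (show algebraMap _ L f ∈ C from hT f) (show (algebraMap _ L s)⁻¹ ∈ C from (hT s).inv)⟩
  haveI : FaithfulSMul k L := (faithfulSMul_iff_algebraMap_injective k L).mpr (algebraMap k L).injective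
  obtain ⟨S, hST, hS⟩ := exists_isTranscendenceBasis_subset (R := k) (A := L) T
  rw [← hS.cardinalMk_eq_trdeg]
  refine (mk_le_mk_of_subset hST).trans ((mk_union_le _ _).trans ?_)
  rw [Nat.cast_add]
  refine add_le_add ?_ ?_
  · exact (mk_range_le_lift (f := fB ∘ b)).trans_eq' (by simp) |>.trans (by simp)
  · exact (mk_range_le_lift (f := fK ∘ t)).trans_eq' (by simp) |>.trans (by simp)

variable {K Γ : Type u} [Field K] [Algebra k K] [CommGroup Γ] (D : RatAct k B K Γ)
  (O : Subalgebra k K) [IsLocalRing O] [ValuationRing O] [IsFractionRing O K]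

/-- The residue of a translate. -/
def resAct (a : K) (x : B →ₐ[k] k) : ResidueField O :=
  by classical exact if h : D.act x a ∈ O then resA O ⟨_, h⟩ else 0

omit [ValuationRing O] [IsFractionRing O K] in
theorem resAct_eq {a : K} {x : B →ₐ[k] k} (o : O) (h : D.act x a = o) : resAct D O a x = resA O o := by
  rw [resAct, dif_pos (h ▸ o.2)]
  exact congrArg (resA O) (Subtype.ext h)

/-- The residue homomorphism of the generic translate. -/
theorem exists_resHom : ∃ ψ : genRing D O →ₐ[k] FractionRing (B ⊗[k] ResidueField O),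
    (∀ a : genRing D O, Agr (ψ a) (resAct D O a.1)) ∧
    (∀ a : genRing D O, InM D O a.1 → ψ a = 0) ∧ ∀ a : genRing D O, ¬ InM D O a.1 → ψ a ≠ 0 := by
  classical
  let Lr := FractionRing (B ⊗[k] ResidueField O)
  let W := genRing D O
  let F : W → (B →ₐ[k] k) → ResidueField O := fun a x => resAct D O a.1 x
  have hF : ∀ a : W, ∃ q : Lr, Agr q (F a) := by
    intro a
    obtain ⟨f, s, hs, h⟩ := D.rat a.1
    obtain ⟨c, s', hc, hs', hsu⟩ := exists_normal O hs
    let f₁ : B ⊗[k] K := f * (1 ⊗ₜ c⁻¹)
    have hgen : Gen fun x => D.act x a.1 ∈ O ∧ evA x f₁ = evA x s' * D.act x a.1 := by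
      refine (Gen.and a.2 (gen_evA_ne_zero hs)).mono fun x hx => ⟨hx.1, ?_⟩
      have key := h x hx.2
      simp only [f₁, map_mul, evA_tmul, map_one, one_smul, ← key]
      rw [← hs', map_mul, evA_map, evA_tmul, map_one, one_smul]
      simp only [Subalgebra.coe_val, RatAct.act]
      field_simp
    obtain ⟨f', hf'⟩ := exists_lift_of_evA_mem O (f := f₁) (hgen.mono fun x hx => by
      rw [hx.2]; exact O.mul_mem (evA x s').2 hx.1)
    refine agr_of_rat hsu (hgen.mono fun x hx => ?_) (f := Algebra.TensorProduct.map (AlgHom.id k B) (resA O) f')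
    show _ * resAct D O a.1 x = _
    rw [resAct_eq D O ⟨_, hx.1⟩ rfl]
    rw [evA_map, evA_map, ← map_mul]
    congr 1
    refine Subtype.ext ?_
    rw [MulMemClass.coe_mul]
    have : ((evA x f' : O) : K) = evA x f₁ := by rw [← hf', evA_map]; rfl
    exact (this.trans hx.2).symm
  choose ψf hψf using hF
  have hFval : ∀ (a : W) x (o : O), D.act x a.1 = o → F a x = resA O o := fun a x o ho => resAct_eq D O o ho
  have hψ1 : ψf 1 = 1 := (hψf 1).unique agr_one (gen_of_forall fun x => by
    rw [hFval 1 x 1 (by simp), map_one])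
  let ψ : W →ₐ[k] Lr :=
    { toFun := ψf
      map_one' := hψ1
      map_mul' := fun a a' => (hψf (a * a')).unique ((hψf a).mul (hψf a')) ((Gen.and a.2 a'.2).mono fun x hx => by
        rw [hFval a x ⟨_, hx.1⟩ rfl, hFval a' x ⟨_, hx.2⟩ rfl, ← map_mul, hFval (a * a') x]
        simp)
      map_zero' := (hψf 0).unique agr_zero (gen_of_forall fun x => by
        rw [hFval 0 x 0 (by simp), map_zero])
      map_add' := fun a a' => (hψf (a + a')).unique ((hψf a).add (hψf a')) ((Gen.and a.2 a'.2).mono fun x hx => by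
        rw [hFval a x ⟨_, hx.1⟩ rfl, hFval a' x ⟨_, hx.2⟩ rfl, ← map_add, hFval (a + a') x]
        simp)
      commutes' := fun r => by
        refine (hψf _).unique (q' := algebraMap k Lr r) (F' := fun _ => algebraMap k (ResidueField O) r) ?_
          (gen_of_forall fun x => ?_)
        · rw [IsScalarTower.algebraMap_apply k (B ⊗[k] ResidueField O) Lr]
          exact (agr_of_family _).congr (gen_of_forall fun x => AlgHom.commutes _ _)
        · rw [hFval _ x (algebraMap k O r) (by simp)]
          exact (resA O).commutes r }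
  have hψM : ∀ a : W, InM D O a.1 → ψ a = 0 := fun a ha => (hψf a).eq_zero_iff.mpr (ha.mono fun x ⟨o, ho, hxo⟩ => by
    rw [hFval a x o hxo]
    exact (residue_eq_zero_iff _).mpr ho)
  have hψU : ∀ a : W, ¬ InM D O a.1 → ψ a ≠ 0 := fun a ha h0 => by
    obtain ⟨x, h1, o, ho, hxo⟩ := (((hψf a).eq_zero_iff.mp h0).and ((gen_isUnit_or_inM D O a.2).resolve_left ha)).exists
    rw [hFval a x o hxo] at h1
    exact (residue_ne_zero_iff_isUnit _).mpr ho h1
  exact ⟨ψ, hψf, hψM, hψU⟩

omit [IsLocalRing O] [ValuationRing O] [IsFractionRing O K] in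
/-- The family of translates is a field homomorphism. -/
theorem exists_actHom : ∃ q : K →ₐ[k] FractionRing (B ⊗[k] K), ∀ a, Agr (q a) fun x => D.act x a := by
  classical
  let L := FractionRing (B ⊗[k] K)
  choose qK hqK using D.exists_agr
  let qKh : K →ₐ[k] L :=
    { toFun := qK
      map_one' := (hqK 1).unique agr_one (gen_of_forall fun x => by simp)
      map_mul' := fun a a' => (hqK _).unique ((hqK a).mul (hqK a')) (gen_of_forall fun x => by simp)
      map_zero' := (hqK 0).unique agr_zero (gen_of_forall fun x => by simp)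
      map_add' := fun a a' => (hqK _).unique ((hqK a).add (hqK a')) (gen_of_forall fun x => by simp)
      commutes' := fun r => by
        refine (hqK _).unique (q' := algebraMap k L r) (F' := fun _ => algebraMap k K r) ?_
          (gen_of_forall fun x => by simp)
        rw [IsScalarTower.algebraMap_apply k (B ⊗[k] K) L]
        exact (agr_of_family _).congr (gen_of_forall fun x => AlgHom.commutes _ _) }
  exact ⟨qKh, hqK⟩

/-- The generic translate has residue field of transcendence degree one less than the field. -/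
theorem exists_indep {n m : ℕ} (hnm : m + 1 = n) (b : Fin n → B) (hb : AlgebraicIndependent k b)
    [Algebra.IsAlgebraic (Algebra.adjoin k (Set.range b)) B]
    (t : Fin n → K) (ht : AlgebraicIndependent k t) [Algebra.IsAlgebraic (Algebra.adjoin k (Set.range t)) K]
    (y : Fin m → O) (hy : AlgebraicIndependent k (resA O ∘ y)) :
    ∃ z : Fin m → K, (∀ i, z i ∈ genRing D O) ∧
      ∀ P : MvPolynomial (Fin m) k, P ≠ 0 → ¬ InM D O (MvPolynomial.aeval z P) := by
  classical
  let L := FractionRing (B ⊗[k] K)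
  let Lr := FractionRing (B ⊗[k] ResidueField O)
  let W := genRing D O
  obtain ⟨ψ, hψf, hψM, hψU⟩ := exists_resHom D O
  suffices hsuff : ¬ Algebra.trdeg k ψ.range < m by
    rw [not_lt] at hsuff
    obtain ⟨T, hT⟩ := exists_isTranscendenceBasis k ψ.range
    rw [← hT.cardinalMk_eq_trdeg] at hsuff
    obtain ⟨e⟩ : Nonempty (Fin m ↪ T) := by
      refine Cardinal.lift_mk_le'.mp ?_
      simpa using hsuff
    choose w hw using fun i => ((e i).1).2
    refine ⟨fun i => (w i).1, fun i => (w i).2, fun P hP hM => ?_⟩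
    have hind : AlgebraicIndependent k fun i => ((e i).1 : ψ.range) := hT.1.comp e e.injective
    have h0 := hind.map' (f := ψ.range.val) Subtype.val_injective
    have hcoe : ((MvPolynomial.aeval w P : W) : K) = MvPolynomial.aeval (fun i => (w i).1) P := by
      exact (MvPolynomial.map_aeval w W.val.toRingHom P).trans (by rw [MvPolynomial.aeval_def]; rfl)
    have h1 : ψ (MvPolynomial.aeval w P) = 0 := hψM _ (by rw [hcoe]; exact hM)
    rw [← AlgHom.comp_apply, MvPolynomial.comp_aeval] at h1
    refine hP ((map_eq_zero_iff _ h0).mp ?_)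
    rw [← h1]
    congr 2
    funext i
    exact (hw i).symm
  intro hlt
  -- independent residues
  let yK : ULift.{u} (Fin m) → ResidueField O := fun i => resA O (y i.down)
  let zr : ULift.{u} (Fin m) ⊕ ULift.{u} (Fin n) → Lr :=
    Sum.elim (fun i => algebraMap (B ⊗[k] ResidueField O) Lr (1 ⊗ₜ[k] yK i)) (algebraMap B Lr ∘ b ∘ ULift.down)
  have hzr : AlgebraicIndependent k zr :=
    (hb.comp _ ULift.down_injective).sumElim_comp
      (algebraicIndependent_family yK (hy.comp _ ULift.down_injective))
  obtain ⟨s, hs, hcard⟩ := exists_indep_subfamily ψ.range hlt zr hzr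
  -- their lifts
  obtain ⟨qKh, hqK⟩ := exists_actHom D
  let zf : ULift.{u} (Fin m) ⊕ ULift.{u} (Fin n) → (B →ₐ[k] k) → O :=
    Sum.elim (fun i _ => y i.down) (fun i x => algebraMap k O (x (b i.down)))
  let zl : ULift.{u} (Fin m) ⊕ ULift.{u} (Fin n) → L :=
    Sum.elim (fun i => algebraMap (B ⊗[k] K) L (1 ⊗ₜ[k] (y i.down : K))) (algebraMap B L ∘ b ∘ ULift.down)
  have hzl : ∀ i, Agr (zl i) fun x => (zf i x : K) := by
    rintro (i | i)
    · exact (agr_of_family _).congr (gen_of_forall fun x => by simp [zf])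
    · show Agr (algebraMap B L (b i.down)) _
      rw [IsScalarTower.algebraMap_apply B (B ⊗[k] K) L]
      refine (agr_of_family ((b i.down) ⊗ₜ[k] (1 : K))).congr (gen_of_forall fun x => ?_)
      simp [zf, Algebra.smul_def]
  have hzrf : ∀ i, Agr (zr i) fun x => resA O (zf i x) := by
    rintro (i | i)
    · exact (agr_of_family _).congr (gen_of_forall fun x => by simp [zf, yK])
    · show Agr (algebraMap B Lr (b i.down)) _
      rw [IsScalarTower.algebraMap_apply B (B ⊗[k] ResidueField O) Lr]
      refine (agr_of_family ((b i.down) ⊗ₜ[k] (1 : ResidueField O))).congr (gen_of_forall fun x => ?_)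
      simp [zf, Algebra.smul_def]
  have hnot : ¬ AlgebraicIndependent qKh.range fun i : s => zl i := fun hind => by
    have hN : Algebra.trdeg k L ≤ (n + n : ℕ) := trdeg_family_le (B := B) b t
    have := card_le_of_hom hN qKh t ht (fun i : s => zl i) hind
    simp only [Fintype.card_sum, Fintype.card_ulift, Fintype.card_fin] at hcard
    omega
  rw [algebraicIndependent_iff] at hnot
  push Not at hnot
  obtain ⟨P, hP, hP0⟩ := hnot
  obtain ⟨P', rfl⟩ : ∃ P' : MvPolynomial s K, MvPolynomial.map qKh.rangeRestrict.toRingHom P' = P :=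
    MvPolynomial.map_surjective _ qKh.rangeRestrict_surjective P
  have hP'0 : P' ≠ 0 := fun h => hP0 (by rw [h, map_zero])
  obtain ⟨d₀, hd₀⟩ := MvPolynomial.ne_zero_iff.mp hP'0
  -- scale to coefficients in `W`, one of them not in the maximal ideal
  have hmaxW : ∃ c : K, c ≠ 0 ∧ (∀ d, c * P'.coeff d ∈ W) ∧ ∃ d, ¬ InM D O (c * P'.coeff d) := by
    choose! z hz hzg using fun a (ha : a ≠ (0 : K)) => exists_const D O ha
    let c' : _ → K := fun d => if P'.coeff d = 0 then 0 else z (P'.coeff d)
    have hd₀' : d₀ ∈ P'.support := MvPolynomial.mem_support_iff.mpr hd₀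
    obtain ⟨d₁, hd₁, hne, hmax⟩ := exists_max O P'.support c' ⟨d₀, hd₀', by simp only [c', if_neg hd₀]; exact hz _ hd₀⟩
    have h1 : P'.coeff d₁ ≠ 0 := MvPolynomial.mem_support_iff.mp hd₁
    refine ⟨(P'.coeff d₁)⁻¹, inv_ne_zero h1, fun d => ?_, d₁, ?_⟩
    · by_cases hd : P'.coeff d = 0
      · rw [hd, mul_zero]; exact W.zero_mem
      refine ((hzg _ hd).and (hzg _ h1)).mono fun x ⟨⟨o, _, ho⟩, ⟨o₁, ⟨u₁, hu₁⟩, ho₁⟩⟩ => ?_
      have hr := hmax d (MvPolynomial.mem_support_iff.mpr hd)
      simp only [c', if_neg hd, if_neg h1] at hr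
      have hinv : ((o₁ : K))⁻¹ = ((u₁⁻¹ : Oˣ) : O) := by
        refine inv_eq_of_mul_eq_one_right ?_
        rw [← hu₁, ← MulMemClass.coe_mul, Units.mul_inv, OneMemClass.coe_one]
      simp only [RatAct.act] at ho ho₁ ⊢
      rw [map_mul, map_inv₀, ho, ho₁, mul_inv, hinv,
        show ((z (P'.coeff d₁))⁻¹ * ((u₁⁻¹ : Oˣ) : O) * (z (P'.coeff d) * (o : K))) =
          (z (P'.coeff d) / z (P'.coeff d₁)) * (((u₁⁻¹ : Oˣ) : O) * o) by field_simp]
      exact O.mul_mem hr (O.mul_mem ((u₁⁻¹ : Oˣ) : O).2 o.2)
    · rw [inv_mul_cancel₀ h1]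
      intro hM
      obtain ⟨x, o, ho, hxo⟩ := Gen.exists hM
      simp only [RatAct.act, map_one] at hxo
      exact ho ((show o = 1 from Subtype.ext hxo.symm) ▸ isUnit_one)
  obtain ⟨c, hc, hcW, d₁, hd₁⟩ := hmaxW
  let Pr : MvPolynomial s ψ.range := ∑ d ∈ P'.support, MvPolynomial.monomial d (ψ.rangeRestrict ⟨_, hcW d⟩)
  have hPr : Pr.coeff d₁ ≠ 0 := by
    have hd₁s : d₁ ∈ P'.support := by
      rw [MvPolynomial.mem_support_iff]
      intro h
      exact hd₁ (by rw [h, mul_zero]; exact gen_of_forall fun x => ⟨0, zero_mem _, by simp⟩)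
    simp only [Pr, MvPolynomial.coeff_sum, MvPolynomial.coeff_monomial, Finset.sum_ite_eq', if_pos hd₁s]
    intro h
    exact hψU ⟨_, hcW d₁⟩ hd₁ (congrArg Subtype.val h)
  refine hPr ?_
  rw [algebraicIndependent_iff.mp hs Pr ?_, MvPolynomial.coeff_zero]
  have hP' : Agr (0 : L) fun x => ∑ d ∈ P'.support, D.act x (P'.coeff d) * d.prod fun i e => (zf i x : K) ^ e := by
    have := agr_eval₂ qKh.toRingHom (fun x a => D.act x a) (fun i : s => zl i) (fun i x => (zf i x : K)) hqK
      (fun i => hzl i) P'
    have h0 : MvPolynomial.eval₂ qKh.toRingHom (fun i : s => zl i) P' = 0 := by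
      rw [MvPolynomial.aeval_def, MvPolynomial.eval₂_map] at hP
      exact hP
    rwa [h0] at this
  have hgen : Gen fun x => ∑ d ∈ P'.support, resAct D O (c * P'.coeff d) x * (d.prod fun i e => resA O (zf i x) ^ e) = 0 := by
    refine ((hP'.eq_zero_iff.mp rfl).and (gen_all P'.support fun d _ => hcW d)).mono fun x ⟨h0, hd⟩ => ?_
    let S : O := ∑ d ∈ P'.support.attach, ⟨_, hd d.1 d.2⟩ * (d.1.prod fun i e => zf i x ^ e)
    have hS : S = 0 := by
      refine Subtype.ext ?_
      simp only [S, AddSubmonoidClass.coe_finset_sum, MulMemClass.coe_mul, Finsupp.prod, SubmonoidClass.coe_finset_prod,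
        SubmonoidClass.coe_pow, RatAct.act, map_mul, mul_assoc, ← Finset.mul_sum, ZeroMemClass.coe_zero]
      rw [Finset.sum_attach P'.support fun d => D.σ (D.pt x) (P'.coeff d) * ∏ i ∈ d.support, (zf i x : K) ^ d i]
      simp only [RatAct.act, Finsupp.prod] at h0
      rw [h0, mul_zero]
    have h2 := congrArg (resA O) hS
    simp only [S, map_sum, map_mul, map_zero, map_finsuppProd, map_pow] at h2
    rw [← h2, ← Finset.sum_attach P'.support]
    refine Finset.sum_congr rfl fun d _ => ?_
    rw [resAct_eq D O ⟨_, hd d.1 d.2⟩ rfl]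
    congr 2
    exact Subtype.ext (map_mul (D.σ (D.pt x)) c (P'.coeff d.1))
  have hfin : Agr (MvPolynomial.aeval (fun i : s => zr i) Pr : Lr)
      fun x => ∑ d ∈ P'.support, resAct D O (c * P'.coeff d) x * (d.prod fun i e => resA O (zf i x) ^ e) := by
    let Pw : MvPolynomial s W := ∑ d ∈ P'.support, MvPolynomial.monomial d (⟨_, hcW d⟩ : W)
    have hcoef : ∀ d, Pw.coeff d = ⟨_, hcW d⟩ := fun d => by
      simp only [Pw, MvPolynomial.coeff_sum, MvPolynomial.coeff_monomial, Finset.sum_ite_eq']
      split_ifs with hd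
      · rfl
      · exact Subtype.ext (by simp [MvPolynomial.notMem_support_iff.mp hd])
    have hsupp : Pw.support = P'.support := by
      ext d
      simp only [MvPolynomial.mem_support_iff, hcoef, ne_eq, ← Subtype.coe_inj, ZeroMemClass.coe_zero, mul_eq_zero, hc,
        false_or]
    have key : MvPolynomial.aeval (fun i : s => zr i) Pr =
        MvPolynomial.eval₂ ψ.toRingHom (fun i : s => zr i) Pw := by
      simp only [Pr, Pw, MvPolynomial.aeval_def, MvPolynomial.eval₂_sum, MvPolynomial.eval₂_monomial]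
      rfl
    rw [key]
    refine (agr_eval₂ ψ.toRingHom (fun x a => resAct D O a.1 x) (fun i : s => zr i) (fun i x => resA O (zf i x)) hψf
      (fun i => hzrf i) Pw).congr (gen_of_forall fun x => ?_)
    simp only [hsupp, hcoef]
  exact hfin.eq_zero_iff.mpr hgen

end Groth.Agent.Chevalley.Val
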