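import Groth.Agent.Chevalley.Val.Pts
import Mathlib.RingTheory.Localization.Away.Basic
import Mathlib.RingTheory.Nilpotent.Lemmas
import Mathlib.RingTheory.Ideal.Quotient.Nilpotent

/-!
Local rings of points inside a field, and functions on distinguished open sets.
-/

universe u

noncomputable section

open TensorProduct

namespace Groth.Agent.Chevalley.Val

variable {k K : Type u} [Field k] [Field K] [Algebra k K] {A : Subalgebra k K}

/-- The local ring of a point, inside the fraction field. -/
def locRing (χ : A →ₐ[k] k) : Subalgebra k K where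
  carrier := {w | ∃ a u : A, χ u ≠ 0 ∧ w * (u : K) = a}
  mul_mem' := by
    rintro w w' ⟨a, u, hu, h⟩ ⟨a', u', hu', h'⟩
    exact ⟨a * a', u * u', by rw [map_mul]; exact mul_ne_zero hu hu',
      by rw [MulMemClass.coe_mul, MulMemClass.coe_mul, ← h, ← h']; ring⟩
  add_mem' := by
    rintro w w' ⟨a, u, hu, h⟩ ⟨a', u', hu', h'⟩
    exact ⟨a * u' + a' * u, u * u', by rw [map_mul]; exact mul_ne_zero hu hu',
      by simp only [AddMemClass.coe_add, MulMemClass.coe_mul, ← h, ← h']; ring⟩
  algebraMap_mem' r := ⟨algebraMap k A r, 1, by rw [map_one]; exact one_ne_zero, by simp⟩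

theorem le_locRing (χ : A →ₐ[k] k) : A ≤ locRing χ := fun a ha =>
  ⟨⟨a, ha⟩, 1, by rw [map_one]; exact one_ne_zero, by simp⟩

section Ext

variable {χ : A →ₐ[k] k} {Q : Type u} [CommRing Q] [Algebra k Q] (φ : A →ₐ[k] Q)
  (hφ : ∀ u, χ u ≠ 0 → IsUnit (φ u))

include hφ in
theorem exists_ext : ∃ ψ : locRing χ →ₐ[k] Q, ∀ (w : locRing χ) (a u : A), χ u ≠ 0 → (w : K) * u = a →
    ψ w * φ u = φ a := by
  have key : ∀ {w : K} {a u a' u' : A}, χ u ≠ 0 → w * (u : K) = a → w * (u' : K) = a' →
      ∀ q, q * φ u = φ a → q * φ u' = φ a' := by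
    intro w a u a' u' hu h h' q hq
    have e : a * u' = a' * u := Subtype.ext (by rw [MulMemClass.coe_mul, MulMemClass.coe_mul, ← h, ← h']; ring)
    refine (hφ u hu).mul_left_injective ?_
    show q * φ u' * φ u = φ a' * φ u
    rw [← map_mul φ a', ← e, map_mul, ← hq]
    ring
  choose a u hu h using fun w : locRing χ => w.2
  let f : locRing χ → Q := fun w => φ (a w) * Ring.inverse (φ (u w))
  have hf : ∀ (w : locRing χ) (a' u' : A), χ u' ≠ 0 → (w : K) * u' = a' → f w * φ u' = φ a' := fun w a' u' _ h' =>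
    key (hu w) (h w) h' _ (by simp only [f]; rw [mul_assoc, Ring.inverse_mul_cancel _ (hφ _ (hu w)), mul_one])
  have huniq : ∀ (w : locRing χ) (q : Q) (a' u' : A), χ u' ≠ 0 → (w : K) * u' = a' → q * φ u' = φ a' → f w = q :=
    fun w q a' u' hu' h' hq => (hφ u' hu').mul_left_injective ((hf w a' u' hu' h').trans hq.symm)
  refine ⟨{ toFun := f, map_one' := ?_, map_mul' := ?_, map_zero' := ?_, map_add' := ?_, commutes' := ?_ }, hf⟩
  · exact huniq 1 1 1 1 (by simp) (by simp) (by simp)
  · intro w w'
    refine huniq _ _ (a w * a w') (u w * u w') (by rw [map_mul]; exact mul_ne_zero (hu w) (hu w')) ?_ ?_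
    · simp only [MulMemClass.coe_mul, ← h]; ring
    · rw [map_mul, map_mul, ← hf w _ _ (hu w) (h w), ← hf w' _ _ (hu w') (h w')]; ring
  · exact huniq 0 0 0 1 (by simp) (by simp) (by simp)
  · intro w w'
    refine huniq _ _ (a w * u w' + a w' * u w) (u w * u w') (by rw [map_mul]; exact mul_ne_zero (hu w) (hu w')) ?_ ?_
    · simp only [MulMemClass.coe_mul, AddMemClass.coe_add, ← h]; ring
    · rw [map_mul, map_add, map_mul, map_mul, ← hf w _ _ (hu w) (h w), ← hf w' _ _ (hu w') (h w')]; ring
  · intro r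
    exact huniq _ _ (algebraMap k A r) 1 (by simp) (by simp) (by rw [map_one, mul_one, AlgHom.commutes])

/-- The extension of a map to the local ring. -/
def locExt : locRing χ →ₐ[k] Q := (exists_ext φ hφ).choose

theorem locExt_spec (w : locRing χ) (a u : A) (hu : χ u ≠ 0) (h : (w : K) * u = a) : locExt φ hφ w * φ u = φ a :=
  (exists_ext φ hφ).choose_spec w a u hu h

theorem locExt_coe (a : A) : locExt φ hφ ⟨a, le_locRing χ a.2⟩ = φ a := by
  have := locExt_spec φ hφ ⟨a, le_locRing χ a.2⟩ a 1 (by simp) (by simp)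
  simpa using this

end Ext

/-- The value at the point. -/
def locEval (χ : A →ₐ[k] k) : locRing χ →ₐ[k] k := locExt χ fun _ h => isUnit_iff_ne_zero.mpr h

theorem locEval_spec {χ : A →ₐ[k] k} (w : locRing χ) (a u : A) (hu : χ u ≠ 0) (h : (w : K) * u = a) :
    locEval χ w * χ u = χ a := locExt_spec _ _ w a u hu h

theorem locEval_coe (χ : A →ₐ[k] k) (a : A) : locEval χ ⟨a, le_locRing χ a.2⟩ = χ a := locExt_coe _ _ a

section Points

variable {B : Type u} [CommRing B] [Algebra k B]

/-- A point as a point of a distinguished open set. -/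
def ptAway {g : B} (x : B →ₐ[k] k) (hx : x g ≠ 0) : Localization.Away g →ₐ[k] k :=
  { (IsLocalization.Away.lift g (isUnit_iff_ne_zero.mpr hx : IsUnit ((x : B →+* k) g)) : Localization.Away g →+* k) with
    commutes' := fun r => by
      show IsLocalization.Away.lift g _ (algebraMap k (Localization.Away g) r) = r
      rw [IsScalarTower.algebraMap_apply k B (Localization.Away g), IsLocalization.Away.lift_eq]
      exact x.commutes r }

theorem ptAway_algebraMap {g : B} (x : B →ₐ[k] k) (hx : x g ≠ 0) (b : B) :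
    ptAway x hx (algebraMap B (Localization.Away g) b) = x b := by
  show IsLocalization.Away.lift g (isUnit_iff_ne_zero.mpr hx : IsUnit ((x : B →+* k) g))
    (algebraMap B (Localization.Away g) b) = x b
  rw [IsLocalization.Away.lift_eq]
  rfl

theorem exists_ptAway_eq {g : B} (y : Localization.Away g →ₐ[k] k) :
    ∃ (x : B →ₐ[k] k) (hx : x g ≠ 0), ptAway x hx = y := by
  refine ⟨y.comp (IsScalarTower.toAlgHom k B _),
    ((IsLocalization.Away.algebraMap_isUnit g).map y).ne_zero, ?_⟩
  refine AlgHom.coe_ringHom_injective (IsLocalization.ringHom_ext (Submonoid.powers g) ?_)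
  ext b
  exact ptAway_algebraMap (y.comp (IsScalarTower.toAlgHom k B _)) ((IsLocalization.Away.algebraMap_isUnit g).map y).ne_zero b

variable [IsAlgClosed k] [IsDomain B] [Algebra.FiniteType k B]

theorem isDomain_away {g : B} (hg : g ≠ 0) : IsDomain (Localization.Away g) :=
  IsLocalization.isDomain_localization (powers_le_nonZeroDivisors_of_noZeroDivisors hg)

instance finiteType_away (g : B) : Algebra.FiniteType k (Localization.Away g) := by
  haveI : Algebra.FiniteType B (Localization.Away g) :=
    IsLocalization.finiteType_of_monoid_fg (Submonoid.powers g) _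
  exact Algebra.FiniteType.trans (S := B) inferInstance inferInstance

theorem away_ext {g : B} (hg : g ≠ 0) {R : Type u} [CommRing R] [Algebra k R] {f f' : Localization.Away g ⊗[k] R}
    (h : ∀ (x : B →ₐ[k] k) (hx : x g ≠ 0), evA (ptAway x hx) f = evA (ptAway x hx) f') : f = f' := by
  haveI := isDomain_away hg
  exact eq_of_evA (gen_of_forall fun y => by
    obtain ⟨x, hx, rfl⟩ := exists_ptAway_eq y
    exact h x hx)

theorem away_ext' {g : B} (hg : g ≠ 0) {r r' : Localization.Away g}
    (h : ∀ (x : B →ₐ[k] k) (hx : x g ≠ 0), ptAway x hx r = ptAway x hx r') : r = r' := by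
  haveI := isDomain_away hg
  rw [← sub_eq_zero]
  refine eq_zero_of_gen (k := k) (gen_of_forall fun y => ?_)
  obtain ⟨x, hx, rfl⟩ := exists_ptAway_eq y
  rw [map_sub, h x hx, sub_self]

/-- A family over a local artinian ring is invertible as soon as its reduction is. -/
theorem isUnit_of_reduction {R Q : Type u} [CommRing R] [Algebra k R] [CommRing Q] [Algebra k Q] (ε : Q →ₐ[k] k)
    (hnil : ∀ q, ε q = 0 → IsNilpotent q) {f : R ⊗[k] Q}
    (hf : IsUnit (Algebra.TensorProduct.lift (AlgHom.id k R) ((Algebra.ofId k R).comp ε)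
      (fun _ _ => Commute.all _ _) f)) : IsUnit f := by
  let π : R ⊗[k] Q →ₐ[k] R := Algebra.TensorProduct.lift (AlgHom.id k R) ((Algebra.ofId k R).comp ε)
      (fun _ _ => Commute.all _ _)
  have hd : ∀ f : R ⊗[k] Q, IsNilpotent (f - π f ⊗ₜ 1) := by
    intro f
    induction f with
    | zero => simp
    | tmul r q =>
      have : r ⊗ₜ[k] q - π (r ⊗ₜ q) ⊗ₜ 1 = r ⊗ₜ (q - algebraMap k Q (ε q)) := by
        rw [TensorProduct.tmul_sub]
        congr 1
        simp only [π, Algebra.TensorProduct.lift_tmul, AlgHom.coe_id, id_eq, AlgHom.comp_apply, Algebra.ofId_apply]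
        rw [mul_comm, ← Algebra.smul_def, Algebra.algebraMap_eq_smul_one, TensorProduct.smul_tmul]
      rw [this]
      obtain ⟨n, hn⟩ := hnil (q - algebraMap k Q (ε q)) (by simp)
      exact ⟨n, by rw [Algebra.TensorProduct.tmul_pow, hn, TensorProduct.tmul_zero]⟩
    | add p q hp hq =>
      have := (Commute.all _ _).isNilpotent_add hp hq
      rwa [map_add, TensorProduct.add_tmul, add_sub_add_comm]
  have h1 : IsUnit (π f ⊗ₜ[k] (1 : Q)) := by
    have := hf.map (Algebra.TensorProduct.includeLeft : R →ₐ[k] R ⊗[k] Q)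
    exact this
  have h2 := (hd f).isUnit_add_left_of_commute h1 (Commute.all _ _)
  rwa [add_sub_cancel] at h2

end Points

end Groth.Agent.Chevalley.Val
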