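import Groth.Agent.CurveConnLib.Spread
import Groth.Agent.GrpSchLib.TensorDomain
import Mathlib.LinearAlgebra.TensorProduct.RightExactness
import Mathlib.LinearAlgebra.Basis.VectorSpace

/-!
Families over an affine variety, evaluated at its points: density of points and generic properties.
-/

universe u

noncomputable section

open TensorProduct

namespace Groth.Agent.Chevalley.Val

variable {k B : Type u} [Field k] [CommRing B] [Algebra k B]

/-- A property of points that holds on a non-empty open set. -/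
def Gen (P : (B →ₐ[k] k) → Prop) : Prop := ∃ g : B, g ≠ 0 ∧ ∀ h, h g ≠ 0 → P h

theorem gen_of_forall [Nontrivial B] {P : (B →ₐ[k] k) → Prop} (h : ∀ x, P x) : Gen P :=
  ⟨1, one_ne_zero, fun x _ => h x⟩

theorem Gen.mono {P Q : (B →ₐ[k] k) → Prop} (hP : Gen P) (h : ∀ x, P x → Q x) : Gen Q :=
  hP.imp fun _ hg => ⟨hg.1, fun x hx => h x (hg.2 x hx)⟩

theorem Gen.and [IsDomain B] {P Q : (B →ₐ[k] k) → Prop} (hP : Gen P) (hQ : Gen Q) : Gen fun x => P x ∧ Q x := by
  obtain ⟨g, hg, hgP⟩ := hP
  obtain ⟨g', hg', hgQ⟩ := hQ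
  refine ⟨g * g', mul_ne_zero hg hg', fun x hx => ?_⟩
  rw [map_mul] at hx
  exact ⟨hgP x (left_ne_zero_of_mul hx), hgQ x (right_ne_zero_of_mul hx)⟩

theorem gen_all [IsDomain B] {ι : Type*} (s : Finset ι) {P : ι → (B →ₐ[k] k) → Prop} (h : ∀ i ∈ s, Gen (P i)) :
    Gen fun x => ∀ i ∈ s, P i x := by
  classical
  induction s using Finset.induction with
  | empty => exact gen_of_forall fun x i hi => absurd hi (Finset.notMem_empty i)
  | insert a s _ ih =>
    refine ((h a (Finset.mem_insert_self a s)).and (ih fun i hi => h i (Finset.mem_insert_of_mem hi))).mono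
      fun x hx i hi => ?_
    rcases Finset.mem_insert.mp hi with rfl | hi
    · exact hx.1
    · exact hx.2 i hi

variable {V : Type u} [AddCommGroup V] [Module k V]

/-- Evaluation of a family of vectors at a point. -/
def evL (x : B →ₐ[k] k) : B ⊗[k] V →ₗ[k] V :=
  (TensorProduct.lid k V).toLinearMap ∘ₗ x.toLinearMap.rTensor V

@[simp] theorem evL_tmul (x : B →ₐ[k] k) (b : B) (v : V) : evL x (b ⊗ₜ v) = x b • v := by simp [evL]

theorem evL_naturality {W : Type u} [AddCommGroup W] [Module k W] (φ : V →ₗ[k] W) (x : B →ₐ[k] k) (f : B ⊗[k] V) :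
    evL x (φ.lTensor B f) = φ (evL x f) := by
  induction f with
  | zero => simp
  | tmul b v => simp
  | add p q hp hq => simp only [map_add, hp, hq]

section Alg

variable [IsAlgClosed k] [IsDomain B] [Algebra.FiniteType k B]

theorem Gen.exists {P : (B →ₐ[k] k) → Prop} (hP : Gen P) : ∃ x, P x := by
  obtain ⟨g, hg, hgP⟩ := hP
  obtain ⟨x, hx⟩ := CurveConnLib.exists_point_ne_zero (k := k) B hg
  exact ⟨x, hgP x hx⟩

theorem gen_ne_zero {b : B} (hb : b ≠ 0) : Gen fun x : B →ₐ[k] k => x b ≠ 0 := ⟨b, hb, fun _ h => h⟩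

theorem eq_zero_of_gen {b : B} (h : Gen fun x : B →ₐ[k] k => x b = 0) : b = 0 := by
  by_contra hb
  obtain ⟨x, h1, h2⟩ := (h.and (gen_ne_zero hb)).exists
  exact h2 h1

theorem eq_zero_of_evL {f : B ⊗[k] V} (h : Gen fun x => evL x f = 0) : f = 0 := by
  classical
  let b := Module.Basis.ofVectorSpace k V
  let e := TensorProduct.equivFinsuppOfBasisRight b (M := B)
  refine e.injective (Finsupp.ext fun i => ?_)
  rw [map_zero, Finsupp.zero_apply]
  refine eq_zero_of_gen (k := k) (h.mono fun x hx => ?_)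
  have key : ∀ f : B ⊗[k] V, b.repr (evL x f) i = x (e f i) := by
    intro f
    induction f with
    | zero => simp
    | tmul c v => simp [e, smul_eq_mul, mul_comm]
    | add p q hp hq => simp [map_add, hp, hq]
  rw [← key, hx, map_zero, Finsupp.zero_apply]

theorem exists_lift_of_evL_mem (W : Submodule k V) {f : B ⊗[k] V} (h : Gen fun x => evL x f ∈ W) :
    ∃ f' : B ⊗[k] W, W.subtype.lTensor B f' = f := by
  refine (lTensor_exact B (LinearMap.exact_subtype_mkQ W) W.mkQ_surjective f).mp ?_
  refine eq_zero_of_evL (h.mono fun x hx => ?_)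
  rw [evL_naturality]
  exact (Submodule.Quotient.mk_eq_zero W).mpr hx

end Alg

section Ring

variable {R R' : Type u} [CommRing R] [Algebra k R] [CommRing R'] [Algebra k R']

/-- Evaluation of a family of ring elements at a point. -/
def evA (x : B →ₐ[k] k) : B ⊗[k] R →ₐ[k] R :=
  Algebra.TensorProduct.lift ((Algebra.ofId k R).comp x) (AlgHom.id k R) fun _ _ => Commute.all _ _

@[simp] theorem evA_tmul (x : B →ₐ[k] k) (b : B) (r : R) : evA x (b ⊗ₜ r) = x b • r := by
  simp [evA, Algebra.smul_def, Algebra.ofId_apply]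

theorem evA_eq_evL (x : B →ₐ[k] k) (f : B ⊗[k] R) : evA x f = evL x f := by
  induction f with
  | zero => simp
  | tmul b v => simp
  | add p q hp hq => simp only [map_add, hp, hq]

theorem evA_map (φ : R →ₐ[k] R') (x : B →ₐ[k] k) (f : B ⊗[k] R) :
    evA x (Algebra.TensorProduct.map (AlgHom.id k B) φ f) = φ (evA x f) := by
  induction f with
  | zero => simp
  | tmul b v => simp
  | add p q hp hq => simp only [map_add, hp, hq]

variable [IsAlgClosed k] [IsDomain B] [Algebra.FiniteType k B]

theorem eq_of_evA {f g : B ⊗[k] R} (h : Gen fun x => evA x f = evA x g) : f = g := by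
  rw [← sub_eq_zero]
  refine eq_zero_of_evL (h.mono fun x hx => ?_)
  rw [← evA_eq_evL, map_sub, hx, sub_self]

theorem gen_evA_ne_zero [IsDomain R] {f : B ⊗[k] R} (hf : f ≠ 0) : Gen fun x : B →ₐ[k] k => evA x f ≠ 0 := by
  classical
  let b := Module.Basis.ofVectorSpace k R
  let e := TensorProduct.equivFinsuppOfBasisRight b (M := B)
  obtain ⟨i, hi⟩ : ∃ i, e f i ≠ 0 := by
    by_contra! h0
    exact hf (e.injective (Finsupp.ext fun i => by simp [h0 i]))
  refine (gen_ne_zero hi).mono fun x hx hz => hx ?_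
  have key : ∀ f : B ⊗[k] R, b.repr (evA x f) i = x (e f i) := by
    intro f
    induction f with
    | zero => simp
    | tmul c v => simp [e, smul_eq_mul, mul_comm]
    | add p q hp hq => simp [map_add, hp, hq]
  rw [← key, hz, map_zero, Finsupp.zero_apply]

theorem exists_lift_of_evA_mem (S : Subalgebra k R) {f : B ⊗[k] R} (h : Gen fun x => evA x f ∈ S) :
    ∃ f' : B ⊗[k] S, Algebra.TensorProduct.map (AlgHom.id k B) S.val f' = f := by
  obtain ⟨f', hf'⟩ := exists_lift_of_evL_mem (B := B) (Subalgebra.toSubmodule S) (f := f)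
    (h.mono fun x hx => by rw [← evA_eq_evL]; exact hx)
  exact ⟨f', hf'⟩

end Ring

end Groth.Agent.Chevalley.Val
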