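import Groth.Agent.VarDim.Basic
import Groth.Agent.S2680
import Groth.Agent.S10862
import Mathlib.RingTheory.Valuation.LocalSubring
import Mathlib.RingTheory.Valuation.ValuationRing
import Mathlib.RingTheory.NoetherNormalization
import Mathlib.RingTheory.Ideal.KrullsHeightTheorem
import Mathlib.RingTheory.IntegralClosure.GoingDown
import Mathlib.RingTheory.DedekindDomain.Dvr
import Mathlib.RingTheory.DiscreteValuationRing.TFAE
import Mathlib.RingTheory.UniqueFactorizationDomain.Ideal
import Mathlib.FieldTheory.IntermediateField.Adjoin.Defs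
import Mathlib.Algebra.MvPolynomial.NoZeroDivisors
import Mathlib.RingTheory.LocalRing.ResidueField.Basic

/-!
Valuation rings with residue field of codimension one, and models on which they are local rings.
-/

universe u

noncomputable section

open IsLocalRing

namespace Groth.Agent.Chevalley.Val

variable {k K : Type u} [Field k] [Field K] [Algebra k K]

/-- A subalgebra containing each generator of a subalgebra with fraction field `K`, or its inverse. -/
theorem isFractionRing_of_mem (B : Type u) [CommRing B] [Algebra k B] [Algebra B K] [IsScalarTower k B K]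
    [IsFractionRing B K] (s : Finset B) (hs : Algebra.adjoin k (s : Set B) = ⊤) (A : Subalgebra k K)
    (h : ∀ b ∈ s, algebraMap B K b ∈ A ∨ (algebraMap B K b)⁻¹ ∈ A) : IsFractionRing A K := by
  let F := IntermediateField.adjoin k (A : Set K)
  have hF : ∀ b : B, algebraMap B K b ∈ F := fun b => by
    have hb : b ∈ Algebra.adjoin k (s : Set B) := hs ▸ Algebra.mem_top
    induction hb using Algebra.adjoin_induction with
    | mem x hx =>
      rcases h x hx with hx | hx
      · exact IntermediateField.subset_adjoin k _ hx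
      · simpa using F.inv_mem (IntermediateField.subset_adjoin k _ hx)
    | algebraMap r => rw [← IsScalarTower.algebraMap_apply]; exact F.algebraMap_mem r
    | add x y _ _ hx hy => rw [map_add]; exact F.add_mem hx hy
    | mul x y _ _ hx hy => rw [map_mul]; exact F.mul_mem hx hy
  refine IsFractionRing.of_field _ _ fun z => ?_
  obtain ⟨a, c, -, rfl⟩ := IsFractionRing.div_surjective (A := B) z
  obtain ⟨r, hr, t, ht, he⟩ := IntermediateField.mem_adjoin_iff_div.mp (F.div_mem (hF a) (hF c))
  rw [Algebra.adjoin_eq] at hr ht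
  exact ⟨⟨r, hr⟩, ⟨t, ht⟩, he⟩

theorem exists_val (B : Type u) [CommRing B] [Algebra k B] [Algebra.FiniteType k B] [Algebra B K]
    [IsScalarTower k B K] [IsFractionRing B K] {m : ℕ} (hm : Algebra.trdeg k K = ((m + 1 : ℕ) : Cardinal))
    (R : ValuationSubring K) (hR : ∀ a : k, algebraMap k K a ∈ R) (t : Finset K) (htne : t.Nonempty)
    (ht : ∀ x ∈ t, x ≠ 0 ∧ R.valuation x < 1) :
    ∃ (O : Subalgebra k K) (_ : IsLocalRing O) (_ : ValuationRing O) (_ : IsFractionRing O K) (y : Fin m → O),
      AlgebraicIndependent k (IsScalarTower.toAlgHom k O (ResidueField O) ∘ y) ∧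
      ∀ x ∈ t, ∃ o : O, o ∈ maximalIdeal O ∧ (o : K) = x := by
  classical
  obtain ⟨s, hs⟩ := (inferInstance : Algebra.FiniteType k B).out
  let RA : Subalgebra k K := { R.toSubring with algebraMap_mem' := hR }
  let adj : B → K := fun b => if algebraMap B K b ∈ R then algebraMap B K b else (algebraMap B K b)⁻¹
  let A0 : Subalgebra k K := Algebra.adjoin k ((t : Set K) ∪ adj '' s)
  have hA0R : A0 ≤ RA := Algebra.adjoin_le fun x hx => by
    rcases hx with hx | ⟨b, _, rfl⟩
    · exact (R.valuation_le_one_iff x).mp (ht x hx).2.le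
    · show adj b ∈ R
      simp only [adj]
      split_ifs with hb
      · exact hb
      · exact (R.mem_or_inv_mem _).resolve_left hb
  have hA0fg : A0.FG := ⟨t ∪ s.image adj, by simp [A0]⟩
  haveI : Algebra.FiniteType k A0 := (Subalgebra.fg_iff_finiteType _).mp hA0fg
  haveI : IsNoetherianRing A0 := Algebra.FiniteType.isNoetherianRing k A0
  let ι0 : A0 →+* R := (Subalgebra.inclusion hA0R).toRingHom
  let P : Ideal A0 := (maximalIdeal R).comap ι0
  have hP : ∀ a : A0, a ∈ P ↔ R.valuation (a : K) < 1 := fun a => by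
    exact (ValuationSubring.valuation_lt_one_iff R (ι0 a))
  obtain ⟨G, hG⟩ := (isNoetherianRing_iff_ideal_fg A0).mp inferInstance P
  obtain ⟨x₀, hx₀⟩ := htne
  let t₀ : A0 := ⟨x₀, Algebra.subset_adjoin (.inl hx₀)⟩
  have ht₀ : t₀ ∈ P := (hP t₀).mpr (ht x₀ hx₀).2
  have hGne : ∃ g ∈ G, (g : K) ≠ 0 := by
    by_contra! h
    have : P ≤ ⊥ := by
      rw [← hG, Ideal.span_le]
      exact fun g hg => Subtype.ext (h g hg)
    exact (ht x₀ hx₀).1 (congrArg Subtype.val (this ht₀))
  obtain ⟨g₀, hg₀, hg₀0, hmax⟩ : ∃ g₀ ∈ G, (g₀ : K) ≠ 0 ∧ ∀ g ∈ G, R.valuation (g : K) ≤ R.valuation (g₀ : K) := by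
    obtain ⟨g₀, hg₀, hmax⟩ := G.exists_max_image (fun g : A0 => R.valuation (g : K)) ⟨_, hGne.choose_spec.1⟩
    refine ⟨g₀, hg₀, fun h0 => ?_, hmax⟩
    obtain ⟨g, hg, hg0⟩ := hGne
    have := hmax g hg
    rw [h0, map_zero, le_zero_iff, map_eq_zero] at this
    exact hg0 this
  let A : Subalgebra k K := A0 ⊔ Algebra.adjoin k ((fun g : A0 => (g : K) / g₀) '' G)
  have hA0A : A0 ≤ A := le_sup_left
  have hAR : A ≤ RA := sup_le hA0R (Algebra.adjoin_le fun x ⟨g, hg, e⟩ => by
    show x ∈ R
    rw [← e, ← R.valuation_le_one_iff, map_div₀]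
    exact (div_le_one₀ (zero_lt_iff.mpr ((map_ne_zero _).mpr hg₀0))).mpr (hmax g hg))
  haveI : Algebra.FiniteType k A := (Subalgebra.fg_iff_finiteType _).mp
    (hA0fg.sup ⟨G.image fun g : A0 => (g : K) / g₀, by simp⟩)
  haveI : IsNoetherianRing A := Algebra.FiniteType.isNoetherianRing k A
  haveI : IsFractionRing A K := isFractionRing_of_mem B s hs A fun b hb => by
    have h1 : adj b ∈ A := hA0A (Algebra.subset_adjoin (.inr ⟨b, hb, rfl⟩))
    simp only [adj] at h1
    split_ifs at h1 with h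
    · exact .inl h1
    · exact .inr h1
  let π : A := ⟨g₀, hA0A g₀.2⟩
  let ιA : A →+* R := (Subalgebra.inclusion hAR).toRingHom
  have hπ : Ideal.span {π} ≤ (maximalIdeal R).comap ιA := by
    rw [Ideal.span_singleton_le_iff_mem]
    exact (ValuationSubring.valuation_lt_one_iff R _).mpr ((hP g₀).mp (hG ▸ Ideal.subset_span hg₀))
  have hPπ : ∀ a : A0, a ∈ P → (⟨a, hA0A a.2⟩ : A) ∈ Ideal.span {π} := by
    intro a ha
    rw [← hG] at ha
    have : (Ideal.span (G : Set A0)) ≤ (Ideal.span {π}).comap (Subalgebra.inclusion hA0A) := by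
      rw [Ideal.span_le]
      intro g hg
      refine Ideal.mem_span_singleton'.mpr
        ⟨⟨(g : K) / g₀, (le_sup_right : _ ≤ A) (Algebra.subset_adjoin ⟨g, hg, rfl⟩)⟩, Subtype.ext ?_⟩
      exact div_mul_cancel₀ _ hg₀0
    exact this ha
  obtain ⟨q, hq⟩ := Ideal.nonempty_minimalPrimes (I := Ideal.span {π})
    (ne_top_of_le_ne_top (Ideal.IsPrime.ne_top inferInstance) hπ)
  haveI : q.IsPrime := hq.1.1
  have hπq : π ∈ q := hq.1.2 (Ideal.mem_span_singleton_self π)
  have hqh : q.height ≤ 1 := Ideal.height_le_one_of_isPrincipal_of_mem_minimalPrimes _ _ hq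
  have hπ0 : π ≠ 0 := fun h => hg₀0 (congrArg Subtype.val h)
  -- Noether normalisation
  obtain ⟨d, φ, hφ, hfin⟩ := exists_finite_inj_algHom_of_fg k A
  letI := φ.toRingHom.toAlgebra
  haveI : IsScalarTower k (MvPolynomial (Fin d) k) A := IsScalarTower.of_algebraMap_eq fun a => (φ.commutes a).symm
  haveI : Module.Finite (MvPolynomial (Fin d) k) A := hfin
  haveI : FaithfulSMul (MvPolynomial (Fin d) k) A := (faithfulSMul_iff_algebraMap_injective _ _).mpr hφ
  obtain ⟨_, htr, hdim, -⟩ := S2680.result k A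
  have hdim' : ringKrullDim A = ((m + 1 : ℕ) : WithBot ℕ∞) := by
    have e := ((FractionRing.algEquiv A K).restrictScalars k).trdeg_eq
    rw [hm, htr, Nat.cast_inj] at e
    rw [hdim, e]
  obtain rfl : d = m + 1 := by
    have h := Groth.Agent.VarDim.ringKrullDim_eq_of_isIntegral (R := MvPolynomial (Fin d) k) (S := A)
    rw [hdim', MvPolynomial.ringKrullDim_of_isNoetherianRing, ringKrullDim_eq_zero_of_field, zero_add] at h
    have h' := h.symm
    simp at h'
    exact_mod_cast h'
  let q₀ := q.under (MvPolynomial (Fin (m + 1)) k)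
  have hq₀ : q₀ ≠ ⊥ := fun h => hπ0 (by rw [Ideal.eq_bot_of_comap_eq_bot (I := q) h] at hπq; exact hπq)
  obtain ⟨f, hf, hfp⟩ := Ideal.IsPrime.exists_mem_prime_of_ne_bot (inferInstance : q₀.IsPrime) hq₀
  have hq₀f : q₀ = Ideal.span {f} := by
    refine le_antisymm ?_ ((Ideal.span_singleton_le_iff_mem _).mpr hf)
    by_contra hne
    haveI : (Ideal.span {f}).IsPrime := (Ideal.span_singleton_prime hfp.ne_zero).mpr hfp
    have hlt : Ideal.span {f} < q₀ := lt_of_le_not_ge ((Ideal.span_singleton_le_iff_mem _).mpr hf) hne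
    have h0 : (⊥ : Ideal (MvPolynomial (Fin (m + 1)) k)) < Ideal.span {f} :=
      bot_lt_iff_ne_bot.mpr (by simpa using hfp.ne_zero)
    have h1 := (Ideal.height_strict_mono_of_isPrime hlt).trans_le'
      (Order.add_one_le_of_lt (Ideal.height_strict_mono_of_isPrime h0))
    have h2 : q₀.height ≤ q.height :=
      le_self_add.trans (Ideal.height_eq_height_add_of_liesOver_of_hasGoingDown q₀ q).ge
    have h3 := h1.trans_le (h2.trans hqh)
    simp at h3
  obtain ⟨i, hi⟩ : ∃ i, f.degreeOf i ≠ 0 := by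
    by_contra! h
    refine hfp.not_unit ?_
    have hv : f.vars = ∅ := Finset.eq_empty_of_forall_notMem fun j hj => by
      rw [MvPolynomial.vars_def, Multiset.mem_toFinset, ← Multiset.one_le_count_iff_mem] at hj
      rw [← MvPolynomial.degreeOf_def, h j] at hj
      omega
    obtain ⟨c, hc⟩ := (MvPolynomial.vars_eq_empty_iff_eq_C ..).mp hv |> fun h => (⟨_, h⟩ : ∃ c, f = MvPolynomial.C c)
    rw [hc]
    exact (IsUnit.mk0 c fun h0 => hfp.ne_zero (by rw [hc, h0, map_zero])).map MvPolynomial.C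
  have hindep : ∀ p : MvPolynomial (Fin m) k, MvPolynomial.rename i.succAbove p ∈ q₀ → p = 0 := by
    intro p hp
    by_contra hp0
    rw [hq₀f, Ideal.mem_span_singleton] at hp
    obtain ⟨g, hg⟩ := hp
    have hr0 : MvPolynomial.rename i.succAbove p ≠ 0 :=
      (map_ne_zero_iff _ (MvPolynomial.rename_injective _ Fin.succAbove_right_injective)).mpr hp0
    have hg0 : g ≠ 0 := fun h => hr0 (by rw [hg, h, mul_zero])
    have h := congrArg (MvPolynomial.degreeOf i) hg
    rw [MvPolynomial.degreeOf_mul_eq hfp.ne_zero hg0] at h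
    have h0 : MvPolynomial.degreeOf i (MvPolynomial.rename i.succAbove p) = 0 := by
      rw [MvPolynomial.degreeOf_def, Multiset.count_eq_zero]
      intro hmem
      have : i ∈ (MvPolynomial.rename i.succAbove p).vars := by
        rw [MvPolynomial.vars_def]; exact Multiset.mem_toFinset.mpr hmem
      obtain ⟨j, -, hj⟩ := Finset.mem_image.mp (MvPolynomial.vars_rename _ _ this)
      exact Fin.succAbove_ne i j hj
    omega
  -- a valuation ring dominating the local ring of `q`
  let qS : Ideal A.toSubring := q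
  haveI : qS.IsPrime := ‹q.IsPrime›
  obtain ⟨V, hV⟩ := (LocalSubring.ofPrime A.toSubring qS).exists_le_valuationSubring
  have hAV : ∀ a : A, (a : K) ∈ V := fun a => hV.1 (LocalSubring.le_ofPrime _ _ a.2)
  let O : Subalgebra k K := { V.toSubring with algebraMap_mem' := fun a => hAV ⟨_, A.algebraMap_mem a⟩ }
  haveI hVal : ValuationRing O := inferInstanceAs (ValuationRing V)
  haveI hLoc : IsLocalRing O := inferInstanceAs (IsLocalRing V)
  haveI hFrac : IsFractionRing O K := inferInstanceAs (IsFractionRing V K)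
  have hdom : ∀ a : A, (⟨a, hAV a⟩ : O) ∈ maximalIdeal O ↔ a ∈ q := by
    intro a
    constructor
    · intro h
      by_contra ha
      let a' : (LocalSubring.ofPrime A.toSubring qS).toSubring := ⟨a, LocalSubring.le_ofPrime _ _ a.2⟩
      have hu : IsUnit a' :=
        IsLocalization.map_units (LocalSubring.ofPrime A.toSubring qS).toSubring (⟨a, ha⟩ : qS.primeCompl)
      exact h (hu.map (Subring.inclusion hV.1))
    · intro ha hu
      let a' : (LocalSubring.ofPrime A.toSubring qS).toSubring := ⟨a, LocalSubring.le_ofPrime _ _ a.2⟩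
      have hu' : IsUnit a' := hV.2.map_nonunit _ hu
      have hm : a' ∈ maximalIdeal (LocalSubring.ofPrime A.toSubring qS).toSubring := by
        rw [← IsLocalization.AtPrime.map_eq_maximalIdeal qS]
        exact Ideal.mem_map_of_mem _ (show (a : A.toSubring) ∈ qS from ha)
      exact hm hu'
  let φO : MvPolynomial (Fin (m + 1)) k →ₐ[k] O := (Subalgebra.inclusion (show A ≤ O from fun a ha => hAV ⟨a, ha⟩)).comp φ
  refine ⟨O, hLoc, hVal, hFrac, fun j => φO (MvPolynomial.X (i.succAbove j)), ?_, fun x hx => ?_⟩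
  · rw [algebraicIndependent_iff]
    intro p hp
    refine hindep p ?_
    have e0 : MvPolynomial.aeval (⇑(IsScalarTower.toAlgHom k O (ResidueField O)) ∘ fun j => φO (MvPolynomial.X (i.succAbove j))) p =
        IsScalarTower.toAlgHom k O (ResidueField O) (MvPolynomial.aeval (fun j => φO (MvPolynomial.X (i.succAbove j))) p) :=
      (MvPolynomial.comp_aeval_apply _ _ _).symm
    rw [e0] at hp
    have hcomp : MvPolynomial.aeval (fun j => φO (MvPolynomial.X (i.succAbove j))) p =
        φO (MvPolynomial.rename i.succAbove p) := by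
      have : MvPolynomial.aeval (fun j => φO (MvPolynomial.X (i.succAbove j))) =
          φO.comp (MvPolynomial.rename i.succAbove) := MvPolynomial.algHom_ext fun j => by simp
      rw [this]; rfl
    rw [hcomp] at hp
    exact (hdom _).mp ((residue_eq_zero_iff _).mp hp)
  · have hxA0 : x ∈ A0 := Algebra.subset_adjoin (.inl hx)
    have h1 : (⟨x, hA0A hxA0⟩ : A) ∈ q :=
      hq.1.2 (hPπ ⟨x, hxA0⟩ ((hP ⟨x, hxA0⟩).mpr (ht x hx).2))
    exact ⟨_, (hdom _).mpr h1, rfl⟩

/-- A model on which the generic translate is the local ring of a divisor. -/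
theorem exists_model (B : Type u) [CommRing B] [Algebra k B] [Algebra.FiniteType k B] [Algebra B K]
    [IsScalarTower k B K] [IsFractionRing B K] {m : ℕ} (hm : Algebra.trdeg k K = ((m + 1 : ℕ) : Cardinal))
    (W : Subalgebra k K) (M : K → Prop) (hMW : ∀ a, M a → a ∈ W) (hor : ∀ a, a ≠ 0 → a ∈ W ∨ M a⁻¹)
    (hadd : ∀ a b, M a → M b → M (a + b)) (hmul : ∀ w a, w ∈ W → M a → M (w * a)) (h1 : ¬ M 1)
    {a₀ : K} (ha₀ : a₀ ≠ 0) (hMa₀ : M a₀) (hM0 : M 0)
    (z : Fin m → K) (hzW : ∀ i, z i ∈ W) (hz : ∀ P : MvPolynomial (Fin m) k, P ≠ 0 → ¬ M (MvPolynomial.aeval z P)) :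
    ∃ (A : Subalgebra k K) (_ : Algebra.FiniteType k A) (_ : IsFractionRing A K) (p : Ideal A) (_ : p.IsPrime),
      A ≤ W ∧ (∀ a : A, a ∈ p ↔ M a) ∧ ringKrullDim (A ⧸ p) ≤ (m : WithBot ℕ∞) ∧
      ∀ w ∈ W, ∃ a u : A, u ∉ p ∧ w * u = a := by
  classical
  obtain ⟨s, hs⟩ := (inferInstance : Algebra.FiniteType k B).out
  let adj : B → K := fun b => if algebraMap B K b ∈ W then algebraMap B K b else (algebraMap B K b)⁻¹
  let A0 : Subalgebra k K := Algebra.adjoin k (insert a₀ (Set.range z) ∪ adj '' s)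
  have hA0W : A0 ≤ W := Algebra.adjoin_le fun x hx => by
    rcases hx with (rfl | ⟨i, rfl⟩) | ⟨b, _, rfl⟩
    · exact hMW _ hMa₀
    · exact hzW i
    · show adj b ∈ W
      simp only [adj]
      split_ifs with hb
      · exact hb
      · exact hMW _ ((hor _ fun h0 => hb (by rw [h0]; exact W.zero_mem)).resolve_left hb)
  have hA0fg : A0.FG := ⟨insert a₀ (Finset.univ.image z) ∪ s.image adj, by simp [A0, Set.insert_union]⟩
  haveI : Algebra.FiniteType k A0 := (Subalgebra.fg_iff_finiteType _).mp hA0fg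
  haveI : IsFractionRing A0 K := isFractionRing_of_mem B s hs A0 fun b hb => by
    have h1 : adj b ∈ A0 := Algebra.subset_adjoin (.inr ⟨b, hb, rfl⟩)
    simp only [adj] at h1
    split_ifs at h1 with h
    · exact .inl h1
    · exact .inr h1
  have hWint : ∀ x : K, IsIntegral A0 x → x ∈ W := by
    intro x ⟨P, hP, hPx⟩
    by_contra hx
    have hx0 : x ≠ 0 := fun h => hx (h ▸ W.zero_mem)
    have hinv := (hor x hx0).resolve_left hx
    refine h1 ?_
    rw [Polynomial.eval₂_eq_sum_range, Finset.sum_range_succ, hP.coeff_natDegree, map_one, one_mul] at hPx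
    have h2 : (1 : K) = -∑ j ∈ Finset.range P.natDegree, ((P.coeff j : A0) : K) * x⁻¹ ^ (P.natDegree - j) := by
      have h3 := congrArg (· * x⁻¹ ^ P.natDegree) (eq_neg_of_add_eq_zero_right hPx)
      simp only [← mul_pow, mul_inv_cancel₀ hx0, one_pow, neg_mul, Finset.sum_mul] at h3
      rw [h3]
      congr 1
      refine Finset.sum_congr rfl fun j hj => ?_
      have hj' := Finset.mem_range.mp hj
      have e : x⁻¹ ^ P.natDegree = x⁻¹ ^ j * x⁻¹ ^ (P.natDegree - j) := by
        rw [← pow_add]; congr 1; omega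
      rw [e, mul_assoc, ← mul_assoc (x ^ j), ← mul_pow, mul_inv_cancel₀ hx0, one_pow, one_mul]
      rfl
    have hneg : ∀ a, M a → M (-a) := fun a ha => by simpa using hmul (-1) a (W.neg_mem W.one_mem) ha
    rw [h2]
    refine hneg _ (Finset.sum_induction _ M hadd hM0 fun j hj => hmul _ _ (hA0W (P.coeff j).2) ?_)
    obtain ⟨r, hr⟩ : ∃ r, P.natDegree - j = r + 1 := ⟨P.natDegree - j - 1, by
      have := Finset.mem_range.mp hj; omega⟩
    rw [hr, pow_succ]
    exact hmul _ _ (W.pow_mem (hMW _ hinv) r) hinv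
  let AI := integralClosure A0 K
  haveI : Module.Finite A0 AI := S10862.result k A0 K K
  let A : Subalgebra k K := AI.restrictScalars k
  haveI hAft : Algebra.FiniteType k A := by
    haveI : Algebra.FiniteType k AI := Algebra.FiniteType.trans (S := A0) inferInstance inferInstance
    exact inferInstanceAs (Algebra.FiniteType k AI)
  haveI : IsNoetherianRing A := Algebra.FiniteType.isNoetherianRing k A
  have hA0A : A0 ≤ A := fun a ha => (isIntegral_algebraMap (R := A0) (A := K) (x := ⟨a, ha⟩))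
  haveI hAfr : IsFractionRing A K := isFractionRing_of_mem B s hs A fun b hb => by
    have h1 : adj b ∈ A := hA0A (Algebra.subset_adjoin (.inr ⟨b, hb, rfl⟩))
    simp only [adj] at h1
    split_ifs at h1 with h
    · exact .inl h1
    · exact .inr h1
  haveI : IsIntegrallyClosed A := by
    haveI : IsIntegrallyClosed AI := integralClosure.isIntegrallyClosedOfFiniteExtension K
    exact inferInstanceAs (IsIntegrallyClosed AI)
  have hAW : A ≤ W := fun x hx => hWint x hx
  let p : Ideal A :=
    { carrier := {a | M (a : K)}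
      add_mem' := fun {a b} ha hb => hadd _ _ ha hb
      zero_mem' := hM0
      smul_mem' := fun w a ha => hmul _ _ (hAW w.2) ha }
  haveI hp : p.IsPrime := by
    refine ⟨(Ideal.ne_top_iff_one _).mpr h1, fun {a b} hab => ?_⟩
    by_contra! hne
    have hu : ∀ c : A, c ∉ p → (c : K)⁻¹ ∈ W := fun c hc => by
      have hc0 : (c : K) ≠ 0 := fun h => hc (show M (c : K) by rw [h]; exact hM0)
      refine (hor _ (inv_ne_zero hc0)).resolve_right ?_
      rw [inv_inv]; exact hc
    have hab' : M ((a : K) * b) := hab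
    have := hmul _ _ (hu a hne.1) hab'
    rw [← mul_assoc, inv_mul_cancel₀ fun h => hne.1 (show M (a : K) by rw [h]; exact hM0), one_mul] at this
    exact hne.2 this
  have hp0 : p ≠ ⊥ := fun h => ha₀ (congrArg Subtype.val
    (show (⟨a₀, hA0A (Algebra.subset_adjoin (.inl (.inl rfl)))⟩ : A) ∈ (⊥ : Ideal A) from h ▸ hMa₀))
  obtain ⟨_, htr, hdim, -⟩ := S2680.result k A
  have hdim' : ringKrullDim A = ((m + 1 : ℕ) : WithBot ℕ∞) := by
    have e := ((FractionRing.algEquiv A K).restrictScalars k).trdeg_eq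
    rw [hm, htr, Nat.cast_inj] at e
    rw [hdim, e]
  obtain ⟨r, hrtr, hrdim, -⟩ := S2680.result k (A ⧸ p)
  let zA : Fin m → A := fun i => ⟨z i, hA0A (Algebra.subset_adjoin (.inl (.inr ⟨i, rfl⟩)))⟩
  have hmr : m ≤ r := by
    have hind : AlgebraicIndependent k (Ideal.Quotient.mkₐ k p ∘ zA) := by
      rw [algebraicIndependent_iff]
      intro P hP
      by_contra hP0
      rw [show MvPolynomial.aeval (⇑(Ideal.Quotient.mkₐ k p) ∘ zA) P = Ideal.Quotient.mkₐ k p (MvPolynomial.aeval zA P) from (MvPolynomial.comp_aeval_apply _ _ _).symm, Ideal.Quotient.mkₐ_eq_mk, Ideal.Quotient.eq_zero_iff_mem] at hP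
      refine hz P hP0 ?_
      have : ((MvPolynomial.aeval zA P : A) : K) = MvPolynomial.aeval z P := by
        exact MvPolynomial.comp_aeval_apply zA A.val P
      exact this ▸ hP
    have h := (hind.map' (f := IsScalarTower.toAlgHom k (A ⧸ p) (FractionRing (A ⧸ p)))
      (IsFractionRing.injective (A ⧸ p) _)).lift_cardinalMk_le_trdeg
    rw [hrtr] at h
    simpa using h
  have hsum := Groth.Agent.VarDim.height_add_coheight_le (⟨p, hp⟩ : PrimeSpectrum A)
  rw [WithBot.coe_add, Groth.Agent.VarDim.coheight_eq_ringKrullDim_quotient, hrdim, hdim',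
    ← PrimeSpectrum.height_eq_orderHeight] at hsum
  obtain ⟨e, he⟩ := ENat.ne_top_iff_exists.mp (Ideal.height_ne_top hp.ne_top)
  rw [← he, show ((e : ℕ∞) : WithBot ℕ∞) = ((e : ℕ) : WithBot ℕ∞) from rfl, ← Nat.cast_add, Nat.cast_le] at hsum
  have he0 : e ≠ 0 := by
    intro h0
    rw [h0, Nat.cast_zero] at he
    exact hp0 ((Ideal.height_eq_zero_iff_eq_bot).mp he.symm)
  have hr : r = m := by omega
  have he1 : e = 1 := by omega
  refine ⟨A, hAft, hAfr, p, hp, hAW, fun _ => Iff.rfl, (le_of_eq hrdim).trans (le_of_eq (by rw [hr])), ?_⟩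
  -- the local ring at `p` is `W`
  let Ap := Localization.AtPrime p
  haveI : IsIntegrallyClosed Ap :=
    isIntegrallyClosed_of_isLocalization Ap p.primeCompl p.primeCompl_le_nonZeroDivisors
  haveI : IsNoetherianRing Ap := IsLocalization.isNoetherianRing p.primeCompl Ap inferInstance
  have hApdim : ringKrullDim Ap = (1 : ℕ) := by
    rw [IsLocalization.AtPrime.ringKrullDim_eq_height p, ← he, he1]; rfl
  haveI : Ring.KrullDimLE 1 Ap := (Ring.krullDimLE_iff).mpr (by rw [hApdim])
  have hnf : ¬ IsField Ap := fun hF => by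
    haveI := hF.toField
    letI := hF.toField
    rw [ringKrullDim_eq_zero_of_isField hF] at hApdim
    exact absurd hApdim (by simp)
  haveI : Ring.DimensionLEOne Ap := ⟨fun {P} hP0 hP => Ring.krullDimLE_one_iff_of_noZeroDivisors.mp inferInstance P hP0 hP⟩
  haveI : IsDedekindDomain Ap :=
    { toIsNoetherian := inferInstance
      maximalOfPrime := Ring.DimensionLEOne.maximalOfPrime
      toIsIntegralClosure := inferInstance }
  haveI : IsDiscreteValuationRing Ap :=
    ((IsDiscreteValuationRing.TFAE Ap hnf).out 0 2).mpr ‹IsDedekindDomain Ap›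
  intro w hw
  obtain ⟨⟨a, c⟩, hac⟩ : ∃ x : A × A, x.2 ≠ 0 ∧ (x.1 : K) / (x.2 : K) = w := by
    obtain ⟨a, c, hc, h⟩ := IsFractionRing.div_surjective (A := A) w
    exact ⟨(a, c), nonZeroDivisors.ne_zero hc, h⟩
  obtain ⟨hc0, hac⟩ := hac
  rcases ValuationRing.cond (algebraMap A Ap a) (algebraMap A Ap c) with ⟨q, hq | hq⟩
  · obtain ⟨⟨x, u⟩, hxu⟩ := IsLocalization.surj p.primeCompl q
    have h4 : a * x = c * u := IsLocalization.injective Ap p.primeCompl_le_nonZeroDivisors (by
      rw [map_mul, map_mul, ← hq, mul_assoc, hxu])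
    have hc' : (c : K) ≠ 0 := fun h => hc0 (Subtype.ext h)
    have hu : (u : A).1 ≠ 0 := fun h => u.2 (show M ((u : A) : K) by rw [h]; exact hM0)
    have h5 : (a : K) * (x : K) = (c : K) * ((u : A) : K) := congrArg Subtype.val h4
    have h6 : w * (x : K) = ((u : A) : K) := by
      rw [← hac, div_mul_eq_mul_div, h5, mul_div_assoc, mul_comm (c : K), div_mul_cancel₀ _ hc']
    by_cases hxp : x ∈ p
    · refine absurd ?_ u.2
      show M _
      rw [← h6]
      exact hmul _ _ hw hxp
    · exact ⟨u, x, hxp, h6⟩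
  · obtain ⟨⟨x, u⟩, hxu⟩ := IsLocalization.surj p.primeCompl q
    have h4 : c * x = a * u := IsLocalization.injective Ap p.primeCompl_le_nonZeroDivisors (by
      rw [map_mul, map_mul, ← hq, mul_assoc, hxu])
    have hc' : (c : K) ≠ 0 := fun h => hc0 (Subtype.ext h)
    refine ⟨x, u, u.2, ?_⟩
    have h5 : (c : K) * (x : K) = (a : K) * ((u : A) : K) := congrArg Subtype.val h4
    rw [← hac, div_mul_eq_mul_div, ← h5, mul_div_cancel_left₀ _ hc']

end Groth.Agent.Chevalley.Val
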