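import Groth.Agent.Chevalley.Val.Count
import Groth.Agent.Chevalley.Val.ValModel
import Groth.Agent.Chevalley.Val.LocEval
import Mathlib.RingTheory.Filtration
import Mathlib.RingTheory.Jacobson.Ring

/-!
A commutative group with no small dense submonoid and with a valuation without centre has a
non-constant regular function.
-/

universe u

noncomputable section

open TensorProduct IsLocalRing

namespace Groth.Agent.Chevalley.Val

variable {k B K Γ : Type u} [Field k] [IsAlgClosed k] [CommRing B] [IsDomain B] [Algebra k B]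
  [Algebra.FiniteType k B] [Field K] [Algebra k K] [CommGroup Γ]

theorem inM_props (D : RatAct k B K Γ) (O : Subalgebra k K) [IsLocalRing O] :
    (∀ a b, InM D O a → InM D O b → InM D O (a + b)) ∧
    (∀ w a, w ∈ genRing D O → InM D O a → InM D O (w * a)) ∧ ¬ InM D O 1 ∧ InM D O 0 := by
  refine ⟨fun a b ha hb => (Gen.and ha hb).mono ?_, fun w a hw ha => (Gen.and hw ha).mono ?_, fun h => ?_, ?_⟩
  · rintro x ⟨⟨o, ho, h⟩, ⟨o', ho', h'⟩⟩
    exact ⟨o + o', add_mem ho ho', by simp [RatAct.act] at h h' ⊢; rw [h, h']⟩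
  · rintro x ⟨hw', ⟨o, ho, h⟩⟩
    exact ⟨⟨_, hw'⟩ * o, Ideal.mul_mem_left _ _ ho, by rw [MulMemClass.coe_mul, ← h]; exact map_mul _ _ _⟩
  · obtain ⟨x, o, ho, hxo⟩ := Gen.exists h
    simp only [RatAct.act, map_one] at hxo
    exact ho ((show o = 1 from Subtype.ext hxo.symm) ▸ isUnit_one)
  · exact gen_of_forall fun x => ⟨0, zero_mem _, by simp⟩

theorem isUnit_iff_not_inM (D : RatAct k B K Γ) (O : Subalgebra k K) [IsLocalRing O] [ValuationRing O]
    [IsFractionRing O K] (w : genRing D O) : IsUnit w ↔ ¬ InM D O w.1 := by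
  obtain ⟨-, hmul, h1, h0⟩ := inM_props D O
  constructor
  · rintro ⟨u, rfl⟩ h
    have := hmul _ _ (((u⁻¹ : _ˣ) : genRing D O)).2 h
    rw [← MulMemClass.coe_mul, Units.inv_mul, OneMemClass.coe_one] at this
    exact h1 this
  · intro h
    have hw0 : (w : K) ≠ 0 := fun e => h (by rw [e]; exact h0)
    have hinv : (w : K)⁻¹ ∈ genRing D O := (inM_or_inv D O (inv_ne_zero hw0)).resolve_right (by rwa [inv_inv])
    exact isUnit_iff_exists_inv.mpr ⟨⟨_, hinv⟩, Subtype.ext (mul_inv_cancel₀ hw0)⟩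

/-- The translates of a finite set have a common denominator which is a unit along the divisor. -/
theorem exists_uniform (D : RatAct k B K Γ) (O : Subalgebra k K) [IsLocalRing O] [ValuationRing O]
    [IsFractionRing O K] (A : Subalgebra k K) (p : Ideal A) [p.IsPrime] (hp : ∀ a : A, a ∈ p ↔ InM D O a.1)
    (hloc : ∀ w ∈ genRing D O, ∃ a u : A, u ∉ p ∧ w * u = a) (hAW : A ≤ genRing D O) (G : Finset A) :
    ∃ (S : B ⊗[k] A) (F : A → B ⊗[k] A), Gen (fun x => evA x S ∉ p) ∧
      ∀ x : B →ₐ[k] k, evA x S ≠ 0 → ∀ a ∈ G, (evA x S : A).1 * D.act x a.1 = (evA x (F a) : A).1 := by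
  classical
  let W := genRing D O
  haveI : IsFractionRing W K := IsFractionRing.of_field _ _ fun z => by
    rcases eq_or_ne z 0 with rfl | hz
    · exact ⟨0, 1, by simp⟩
    rcases inM_or_inv D O hz with h | h
    · exact ⟨⟨z, h⟩, 1, by simp⟩
    · exact ⟨1, ⟨_, inM_mem D O h⟩, by simp⟩
  haveI : ValuationRing W := (ValuationRing.iff_isInteger_or_isInteger W K).mpr fun z => by
    rcases eq_or_ne z 0 with rfl | hz
    · exact .inl ⟨0, map_zero _⟩
    rcases inM_or_inv D O hz with h | h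
    · exact .inl ⟨⟨z, h⟩, rfl⟩
    · exact .inr ⟨⟨_, inM_mem D O h⟩, rfl⟩
  haveI : IsLocalRing W := inferInstance
  have hclear : ∀ f : B ⊗[k] W, ∃ (u : A) (f' : B ⊗[k] A), u ∉ p ∧
      ∀ x, (evA x f : W).1 * (u : K) = (evA x f' : A).1 := by
    intro f
    induction f with
    | zero => exact ⟨1, 0, (Ideal.ne_top_iff_one p).mp (Ideal.IsPrime.ne_top inferInstance), fun x => by simp⟩
    | tmul b w =>
      obtain ⟨a, u, hu, h⟩ := hloc w.1 w.2
      refine ⟨u, b ⊗ₜ a, hu, fun x => ?_⟩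
      simp only [evA_tmul, Subalgebra.coe_smul, smul_mul_assoc, h]
    | add f g hf hg =>
      obtain ⟨u, f', hu, hf⟩ := hf
      obtain ⟨v, g', hv, hg⟩ := hg
      refine ⟨u * v, f' * (1 ⊗ₜ v) + g' * (1 ⊗ₜ u), fun h => (Ideal.IsPrime.mem_or_mem inferInstance h).elim hu hv,
        fun x => ?_⟩
      simp only [map_add, map_mul, evA_tmul, map_one, one_smul, AddMemClass.coe_add, MulMemClass.coe_mul, ← hf, ← hg]
      ring
  have key : ∀ a : A, ∃ (S f : B ⊗[k] A), Gen (fun x => evA x S ∉ p) ∧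
      ∀ x : B →ₐ[k] k, evA x S ≠ 0 → (evA x S : A).1 * D.act x a.1 = (evA x f : A).1 := by
    intro a
    obtain ⟨f₀, s₀, hs₀, hrat⟩ := D.rat a.1
    obtain ⟨c, s', hc, hs', hsu⟩ := exists_normal W hs₀
    let f₁ : B ⊗[k] K := f₀ * (1 ⊗ₜ c⁻¹)
    have hid : ∀ x, evA x s₀ ≠ 0 → (evA x s' : W).1 * D.act x a.1 = evA x f₁ := by
      intro x hx
      have key := hrat x hx
      simp only [f₁, map_mul, evA_tmul, map_one, one_smul, ← key]
      rw [← hs', map_mul, evA_map, evA_tmul, map_one, one_smul]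
      simp only [Subalgebra.coe_val, RatAct.act]
      field_simp
    obtain ⟨f', hf'⟩ := exists_lift_of_evA_mem W (f := f₁) ((gen_evA_ne_zero hs₀).mono fun x hx => by
      rw [← hid x hx]
      exact W.mul_mem (evA x s').2 (genRing_invariant D O (D.pt x) (hAW a.2)))
    obtain ⟨u, S₁, hu, hS₁⟩ := hclear s'
    obtain ⟨v, f₂, hv, hf₂⟩ := hclear f'
    refine ⟨S₁ * (1 ⊗ₜ v), f₂ * (1 ⊗ₜ u), (gen_isUnit_evA W hsu).mono fun x hx hmem => ?_, fun x hx => ?_⟩
    · rw [map_mul, evA_tmul, map_one, one_smul] at hmem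
      rcases Ideal.IsPrime.mem_or_mem inferInstance hmem with h | h
      · rw [hp, ← hS₁] at h
        have hunit : IsUnit (evA x s' * ⟨(u : K), hAW u.2⟩ : W) :=
          hx.mul ((isUnit_iff_not_inM D O _).mpr fun h' => hu ((hp u).mpr h'))
        exact (isUnit_iff_not_inM D O _).mp hunit h
      · exact hv h
    · have hx₀ : evA x s₀ ≠ 0 := by
        intro h0
        refine hx ?_
        rw [← hs', map_mul, evA_map, evA_tmul, map_one, one_smul, mul_eq_zero] at h0
        have h1 : (evA x s' : W).1 = 0 := h0.resolve_right hc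
        have h2 := hS₁ x
        rw [h1, zero_mul] at h2
        rw [map_mul, show evA x S₁ = 0 from Subtype.ext h2.symm, zero_mul]
      have hf1 : (evA x f' : W).1 = evA x f₁ := by rw [← hf', evA_map]; rfl
      simp only [map_mul, evA_tmul, map_one, one_smul, MulMemClass.coe_mul, ← hS₁, ← hf₂, hf1, ← hid x hx₀]
      ring
  induction G using Finset.induction with
  | empty => exact ⟨1, fun _ => 0, gen_of_forall fun x h => (Ideal.IsPrime.ne_top (I := p) inferInstance)
      ((Ideal.eq_top_iff_one p).mpr (by rwa [map_one] at h)), fun x _ a ha => absurd ha (Finset.notMem_empty a)⟩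
  | insert a G ha ih =>
    obtain ⟨S, F, hS, hF⟩ := ih
    obtain ⟨S', f, hS', hf⟩ := key a
    refine ⟨S * S', fun b => if b = a then f * S else F b * S', (hS.and hS').mono fun x hx h => ?_, fun x hx b hb => ?_⟩
    · rw [map_mul] at h
      exact (Ideal.IsPrime.mem_or_mem inferInstance h).elim hx.1 hx.2
    · rw [map_mul, mul_ne_zero_iff] at hx
      rcases Finset.mem_insert.mp hb with rfl | hb'
      · simp only [if_pos, map_mul, MulMemClass.coe_mul, ← hf x hx.2]; ring
      · simp only [if_neg (fun e : b = a => ha (e ▸ hb')), map_mul, MulMemClass.coe_mul, ← hF x hx.1 b hb']; ring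

section Push

variable (D : RatAct k B K Γ) {A : Subalgebra k K} (G : Finset A) (hG : Algebra.adjoin k (G : Set A) = ⊤)
  (S : B ⊗[k] A) (F : A → B ⊗[k] A)
  (hF : ∀ x : B →ₐ[k] k, evA x S ≠ 0 → ∀ a ∈ G, (evA x S : A).1 * D.act x a.1 = (evA x (F a) : A).1)

include hG hF in
theorem act_mem_locRing {χ : A →ₐ[k] k} {x : B →ₐ[k] k} (hx : χ (evA x S) ≠ 0) (a : A) :
    D.act x a.1 ∈ locRing χ := by
  have hx0 : evA x S ≠ 0 := fun h => hx (by rw [h, map_zero])
  have ha : a ∈ Algebra.adjoin k (G : Set A) := hG ▸ Algebra.mem_top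
  induction ha using Algebra.adjoin_induction with
  | mem b hb => exact ⟨evA x (F b), evA x S, hx, by rw [mul_comm]; exact hF x hx0 b hb⟩
  | algebraMap r => simp only [RatAct.act, Subalgebra.coe_algebraMap, AlgEquiv.commutes]; exact Subalgebra.algebraMap_mem _ r
  | add b c _ _ hb hc =>
    simp only [RatAct.act, AddMemClass.coe_add, map_add] at hb hc ⊢
    exact add_mem hb hc
  | mul b c _ _ hb hc =>
    simp only [RatAct.act, MulMemClass.coe_mul, map_mul] at hb hc ⊢
    exact mul_mem hb hc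

/-- The translate of a point. -/
def push {χ : A →ₐ[k] k} {x : B →ₐ[k] k} (hx : χ (evA x S) ≠ 0) : A →ₐ[k] k :=
  (locEval χ).comp (((D.σ (D.pt x)).toAlgHom.comp A.val).codRestrict (locRing χ)
    (fun a => act_mem_locRing D G hG S F hF hx a))

theorem push_apply {χ : A →ₐ[k] k} {x : B →ₐ[k] k} (hx : χ (evA x S) ≠ 0) (a : A) :
    push D G hG S F hF hx a = locEval χ ⟨D.act x a.1, act_mem_locRing D G hG S F hF hx a⟩ := rfl

include hF in
theorem push_mul {χ : A →ₐ[k] k} {x : B →ₐ[k] k} (hx : χ (evA x S) ≠ 0) {a : A} (ha : a ∈ G) :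
    push D G hG S F hF hx a * χ (evA x S) = χ (evA x (F a)) := by
  rw [push_apply]
  exact locEval_spec _ _ _ hx (by rw [mul_comm]; exact hF x (fun h => hx (by rw [h, map_zero])) a ha)

theorem locRing_natural {χ : A →ₐ[k] k} {x : B →ₐ[k] k} (hx : χ (evA x S) ≠ 0) {w : K}
    (hw : w ∈ locRing (push D G hG S F hF hx)) :
    ∃ h : D.act x w ∈ locRing χ, locEval χ ⟨_, h⟩ = locEval (push D G hG S F hF hx) ⟨w, hw⟩ := by
  obtain ⟨a, u, hu, h⟩ := hw
  obtain ⟨a₁, a₂, ha₂, ha⟩ := act_mem_locRing D G hG S F hF hx a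
  obtain ⟨u₁, u₂, hu₂, hu'⟩ := act_mem_locRing D G hG S F hF hx u
  have hpu : push D G hG S F hF hx u * χ u₂ = χ u₁ := locEval_spec _ _ _ hu₂ hu'
  have hpa : push D G hG S F hF hx a * χ a₂ = χ a₁ := locEval_spec _ _ _ ha₂ ha
  have hu₁ : χ u₁ ≠ 0 := hpu ▸ mul_ne_zero hu hu₂
  have hne : χ (a₂ * u₁) ≠ 0 := by rw [map_mul]; exact mul_ne_zero ha₂ hu₁
  have he : D.act x w * ((a₂ * u₁ : A) : K) = ((a₁ * u₂ : A) : K) := by
    have h1 : D.act x w * D.act x u.1 = D.act x a.1 := by
      simp only [RatAct.act, ← map_mul, h]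
    rw [MulMemClass.coe_mul, MulMemClass.coe_mul, ← hu', ← ha, ← h1]
    ring
  have hmem : D.act x w ∈ locRing χ := ⟨_, _, hne, he⟩
  refine ⟨hmem, mul_right_cancel₀ hne ?_⟩
  rw [locEval_spec ⟨_, hmem⟩ _ _ hne he, map_mul, map_mul, ← hpa, ← hpu]
  have h4 := locEval_spec (⟨w, a, u, hu, h⟩ : locRing (push D G hG S F hF hx)) a u hu h
  rw [← h4]
  ring

end Push

/-- A point of a finite type algebra over which there are infinitely many points. -/
theorem infinite_fibre {A R : Type u} [CommRing A] [Algebra k A] [Algebra.FiniteType k A] [CommRing R] [IsDomain R]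
    [Algebra k R] [Algebra.FiniteType k R] {m : ℕ} (hA : ringKrullDim A ≤ (m : WithBot ℕ∞))
    (hR : Algebra.trdeg k (FractionRing R) = ((m + 1 : ℕ) : Cardinal)) (φ : A →ₐ[k] R) (y₀ : R →ₐ[k] k) :
    {y : R →ₐ[k] k | y.comp φ = y₀.comp φ}.Infinite := by
  classical
  intro hfin
  letI := φ.toRingHom.toAlgebra
  let pA : Ideal A := RingHom.ker (y₀.comp φ)
  let M : Ideal R := RingHom.ker y₀
  haveI : pA.IsPrime := RingHom.ker_isPrime _
  haveI hM : M.IsMaximal := RingHom.ker_isMaximal_of_surjective y₀ fun c => ⟨algebraMap k R c, y₀.commutes c⟩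
  haveI : M.LiesOver pA := ⟨(RingHom.comap_ker _ _).symm⟩
  haveI : IsNoetherianRing R := Algebra.FiniteType.isNoetherianRing k R
  haveI : IsNoetherianRing A := Algebra.FiniteType.isNoetherianRing k A
  haveI : IsJacobsonRing R := isJacobsonRing_of_finiteType (A := k)
  let J : Ideal R := pA.map (algebraMap A R)
  have hJM : J ≤ M := Ideal.map_le_iff_le_comap.mpr (Ideal.LiesOver.over (p := pA) (P := M)).le
  have h := Ideal.height_le_height_add_of_liesOver pA M
  have hmax : ∀ P : Ideal R, P.IsPrime → J ≤ P → P.IsMaximal := by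
    intro P hP hJP
    have hjac : P.jacobson = P := IsJacobsonRing.out' P hP.isRadical
    let s := hfin.toFinset
    have hker : ∀ Q : Ideal R, Q.IsMaximal → J ≤ Q → ∃ y ∈ s, RingHom.ker y = Q := by
      intro Q hQ hJQ
      obtain ⟨y, hy⟩ : ∃ y : R →ₐ[k] k, RingHom.ker y = Q := by
        let := Ideal.Quotient.field Q
        have : Module.Finite k (R ⧸ Q) := finite_of_finite_type_of_isJacobsonRing k (R ⧸ Q)
        let ε : (R ⧸ Q) ≃ₐ[k] k := (AlgEquiv.ofBijective (Algebra.ofId k (R ⧸ Q))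
          IsAlgClosed.algebraMap_bijective_of_isIntegral).symm
        refine ⟨ε.toAlgHom.comp (Ideal.Quotient.mkₐ k Q), ?_⟩
        ext r
        simp [RingHom.mem_ker, Ideal.Quotient.eq_zero_iff_mem]
      refine ⟨y, hfin.mem_toFinset.mpr (AlgHom.ext fun a => ?_), hy⟩
      have hmem : φ (a - algebraMap k A (y₀ (φ a))) ∈ J := Ideal.mem_map_of_mem _ (by
        show y₀ (φ (a - algebraMap k A (y₀ (φ a)))) = 0
        simp)
      have h0 : φ (a - algebraMap k A (y₀ (φ a))) ∈ RingHom.ker y := hy ▸ hJQ hmem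
      simp only [RingHom.mem_ker, map_sub, AlgHom.commutes, sub_eq_zero] at h0
      exact h0.trans (by simp)
    let s' := s.filter (fun y : R →ₐ[k] k => P ≤ RingHom.ker y)
    have hle : s'.inf (fun y : R →ₐ[k] k => (RingHom.ker y : Ideal R)) ≤ P := by
      refine le_of_le_of_eq ?_ hjac
      refine le_sInf fun Q hQ => ?_
      obtain ⟨y, hy, rfl⟩ := hker Q hQ.2 (hJP.trans hQ.1)
      exact Finset.inf_le (f := fun y : R →ₐ[k] k => (RingHom.ker y : Ideal R)) (Finset.mem_filter.mpr ⟨hy, hQ.1⟩)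
    obtain ⟨y, hy, hyP⟩ := (Ideal.IsPrime.inf_le' hP).mp hle
    have : P = RingHom.ker y := le_antisymm (Finset.mem_filter.mp hy).2 hyP
    rw [this]
    exact RingHom.ker_isMaximal_of_surjective y fun c => ⟨algebraMap k R c, y.commutes c⟩
  have hq : (M.map (Ideal.Quotient.mk J)).height = 0 := by
    haveI : Ring.KrullDimLE 0 (R ⧸ J) := Ring.KrullDimLE.mk₀ fun P hP => by
      have h1 := hmax (P.comap (Ideal.Quotient.mk J)) inferInstance
        (fun r hr => by simp [Ideal.mem_comap, Ideal.Quotient.eq_zero_iff_mem.mpr hr])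
      exact Ideal.map_comap_of_surjective _ Ideal.Quotient.mk_surjective P ▸
        (h1.map_of_surjective_of_ker_le Ideal.Quotient.mk_surjective (by
          intro r hr; simp [Ideal.mem_comap, RingHom.mem_ker.mp hr]))
    haveI : (M.map (Ideal.Quotient.mk J)).IsPrime :=
      Ideal.map_isPrime_of_surjective Ideal.Quotient.mk_surjective (by rw [Ideal.mk_ker]; exact hJM)
    rw [Ideal.height_eq_zero_iff]
    exact Ideal.mem_minimalPrimes_of_krullDimLE_zero _
  rw [show Ideal.map (Ideal.Quotient.mk (Ideal.map (algebraMap A R) pA)) M = M.map (Ideal.Quotient.mk J) from rfl,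
    hq, add_zero] at h
  obtain ⟨r, hr, -, hloc⟩ := S2680.result k R
  rw [hR, Nat.cast_inj] at hr
  have hMh : (M.height : WithBot ℕ∞) = ((m + 1 : ℕ) : WithBot ℕ∞) := by
    rw [← IsLocalization.AtPrime.ringKrullDim_eq_height M (Localization.AtPrime M), hloc M, hr]
  have h2 := (WithBot.coe_le_coe.mpr h).trans ((Ideal.height_le_ringKrullDim_of_ne_top
    (Ideal.IsPrime.ne_top inferInstance)).trans hA)
  rw [hMh, Nat.cast_le] at h2
  omega

end Groth.Agent.Chevalley.Val
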